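import Cfsg.Agent.H46CS.Def
import Cfsg.Agent.H41.ClassGraph2

/-!
# S4137, piece A1: dichotomy for coprime class sizes
-/

set_option autoImplicit false
set_option linter.style.haveILetI false
set_option linter.unusedSectionVars false

namespace Cfsg.Agent.H46CS

open Cfsg.Agent.H35.CR Cfsg.Agent.SC
open Cfsg.Agent.H72 (Cl card_Cl)

universe u

/-- `z` commutes with every element of the normal closure of `y` if it commutes with all conjugates. -/
theorem comm_normalClosure {G : Type u} [Group G] {y z : G} (h : ∀ g : G, z * (g * y * g⁻¹) = (g * y * g⁻¹) * z) :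
    ∀ a ∈ Subgroup.normalClosure ({y} : Set G), z * a = a * z := by
  intro a ha
  have h1 : Subgroup.normalClosure ({y} : Set G) ≤ Subgroup.centralizer ({z} : Set G) := by
    rw [Subgroup.normalClosure, Subgroup.closure_le]
    intro b hb
    rw [Group.mem_conjugatesOfSet_iff] at hb
    obtain ⟨y', hy', hc⟩ := hb
    rw [Set.mem_singleton_iff] at hy'
    subst hy'
    obtain ⟨g, rfl⟩ := isConj_iff.1 hc
    exact Subgroup.mem_centralizer_singleton_iff.2 (h g).symm
  exact (Subgroup.mem_centralizer_singleton_iff.1 (h1 ha)).symm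

theorem dich {G : Type u} [Group G] [Finite G] (hZ : Subgroup.center G = ⊥) {x y : G}
    (hco : (cz x).index.Coprime (cz y).index) (h2 : (cz (x * y)).index.Coprime (cz y).index) :
    ∃ M : Subgroup G, M.Normal ∧ (∀ a ∈ M, ∀ b ∈ M, a * b = b * a) ∧ y ∈ M ∧ Nat.card M ∣ (cz x).index ∧
      ∀ m ∈ M, ∃ g : G, x * m = g * x * g⁻¹ := by
  classical
  -- products with conjugates
  have hmul : ∀ u v : G, (cz u).index.Coprime (cz v).index → ∀ g h : G, IsConj (u * v) ((g * u * g⁻¹) * (h * v * h⁻¹)) := by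
    intro u v huv g h
    obtain ⟨a, ha, b, hb, hab⟩ := Cfsg.Agent.H72.exists_mul_of_coprime_index huv (g⁻¹ * h)
    refine isConj_iff.2 ⟨g * a, ?_⟩
    have h1 : a * u * a⁻¹ = u := by rw [mem_cz.1 ha]; group
    have h2 : b * v * b⁻¹ = v := by rw [mem_cz.1 hb]; group
    have h3 : h = g * a * b := by
      rw [mul_assoc, ← hab]; group
    calc g * a * (u * v) * (g * a)⁻¹ = g * (a * u * a⁻¹) * (a * v * a⁻¹) * g⁻¹ := by group
      _ = g * u * (a * v * a⁻¹) * g⁻¹ := by rw [h1]
      _ = g * u * (a * (b * v * b⁻¹) * a⁻¹) * g⁻¹ := by rw [h2]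
      _ = (g * u * g⁻¹) * (h * v * h⁻¹) := by rw [h3]; group
  have hstep : ∀ g h k : G, IsConj x ((g * x * g⁻¹) * ((h * y * h⁻¹) * (k * y * k⁻¹)⁻¹)) := by
    intro g h k
    have h1 := hmul x y hco g h
    obtain ⟨l, hl⟩ := isConj_iff.1 h1
    have hcop3 : (cz (x * y)).index.Coprime (cz y⁻¹).index := by rw [cz_inv]; exact h2
    have h2 := hmul (x * y) y⁻¹ hcop3 l k
    rw [hl, mul_inv_cancel_right] at h2
    have h3 : (g * x * g⁻¹) * (h * y * h⁻¹) * (k * y⁻¹ * k⁻¹) =
        (g * x * g⁻¹) * ((h * y * h⁻¹) * (k * y * k⁻¹)⁻¹) := by group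
    rwa [h3] at h2
  -- the subgroup of right stabilizers
  let N : Subgroup G :=
    { carrier := {n | ∀ g : G, IsConj x g → IsConj x (g * n) ∧ IsConj x (g * n⁻¹)}
      mul_mem' := by
        intro a b ha hb g hg
        refine ⟨?_, ?_⟩
        · rw [← mul_assoc]; exact (hb _ (ha g hg).1).1
        · rw [mul_inv_rev, ← mul_assoc]; exact (ha _ (hb g hg).2).2
      one_mem' := by intro g hg; simpa using hg
      inv_mem' := by
        intro a ha g hg
        refine ⟨(ha g hg).2, ?_⟩
        rw [inv_inv]; exact (ha g hg).1 }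
  have hN : N.Normal := by
    refine ⟨fun n hn k g hg => ?_⟩
    have h1 : IsConj x (k⁻¹ * g * k) := by
      refine hg.trans (isConj_iff.2 ⟨k⁻¹, by group⟩)
    obtain ⟨h2, h3⟩ := hn _ h1
    constructor
    · refine h2.trans (isConj_iff.2 ⟨k, by group⟩)
    · refine h3.trans (isConj_iff.2 ⟨k, by group⟩)
  have hmem : ∀ h k : G, (h * y * h⁻¹) * (k * y * k⁻¹)⁻¹ ∈ N := by
    intro h k g hg
    obtain ⟨l, rfl⟩ := isConj_iff.1 hg
    refine ⟨hstep l h k, ?_⟩
    have h1 := hstep l k h
    have h2 : (k * y * k⁻¹) * (h * y * h⁻¹)⁻¹ = ((h * y * h⁻¹) * (k * y * k⁻¹)⁻¹)⁻¹ := by group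
    rwa [h2] at h1
  -- `|N|` divides the class size
  have hcl : ∀ g : G, g ∈ Cl x ↔ IsConj x g := by
    intro g
    rw [isConj_iff]
    rfl
  have hNcard : Nat.card N ∣ (cz x).index := by
    have h1 : Nat.card (Cl x) = (cz x).index := card_Cl x
    rw [← h1]
    refine Cfsg.Agent.H41.ClassGraph.card_dvd_of_stable N (Cl x) (fun s hs t ht => ?_)
    have h2 : t⁻¹ * s * t ∈ N := by
      have := hN.conj_mem s hs t⁻¹
      rwa [inv_inv] at this
    have h3 := (h2 t ((hcl t).1 ht)).1
    rw [hcl]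
    rwa [show t * (t⁻¹ * s * t) = s * t by group] at h3
  have hNcop : (Nat.card N).Coprime (cz y).index := Nat.Coprime.coprime_dvd_left hNcard hco
  -- `N` centralizes `y`
  have hNy : N ≤ cz y := by
    have h1 : (cz y).relIndex N ∣ (cz y).index := by
      have e1 : (N ⊓ cz y).relIndex N * N.relIndex (N ⊔ cz y) = (N ⊓ cz y).relIndex (N ⊔ cz y) :=
        Subgroup.relIndex_mul_relIndex _ _ _ inf_le_left le_sup_left
      have e2 : (N ⊓ cz y).relIndex (cz y) * (cz y).relIndex (N ⊔ cz y) = (N ⊓ cz y).relIndex (N ⊔ cz y) :=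
        Subgroup.relIndex_mul_relIndex _ _ _ inf_le_right le_sup_right
      have e3 : N.relIndex (N ⊔ cz y) = (N ⊓ cz y).relIndex (cz y) := by
        rw [Subgroup.relIndex_sup_left, Subgroup.inf_relIndex_right]
      have e4 : (N ⊓ cz y).relIndex (cz y) ≠ 0 :=
        Subgroup.index_ne_zero_of_finite (H := (N ⊓ cz y).subgroupOf (cz y))
      rw [← e1, e3, Subgroup.inf_relIndex_left, mul_comm] at e2
      have h3 : (cz y).relIndex N = (cz y).relIndex (N ⊔ cz y) :=
        (Nat.eq_of_mul_eq_mul_right (Nat.pos_of_ne_zero e4) e2).symm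
      rw [h3]
      exact Subgroup.relIndex_dvd_index_of_le le_sup_right
    have h2 : (cz y).relIndex N ∣ Nat.card N := Subgroup.index_dvd_card _
    have h3 : (cz y).relIndex N = 1 := Nat.eq_one_of_dvd_coprimes hNcop h2 h1
    exact Subgroup.relIndex_eq_one.1 h3
  have hNconj : ∀ n ∈ N, ∀ g : G, n * (g * y * g⁻¹) = (g * y * g⁻¹) * n := by
    intro n hn g
    have h1 : g⁻¹ * n * g ∈ N := by
      have := hN.conj_mem n hn g⁻¹
      rwa [inv_inv] at this
    have h2 := mem_cz.1 (hNy h1)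
    calc n * (g * y * g⁻¹) = g * ((g⁻¹ * n * g) * y) * g⁻¹ := by group
      _ = g * (y * (g⁻¹ * n * g)) * g⁻¹ := by rw [h2]
      _ = (g * y * g⁻¹) * n := by group
  let Y : Subgroup G := Subgroup.normalClosure ({y} : Set G)
  have hY : Y.Normal := Subgroup.normalClosure_normal
  have hyY : ∀ g : G, g * y * g⁻¹ ∈ Y := fun g =>
    hY.conj_mem _ (Subgroup.subset_normalClosure (Set.mem_singleton y)) g
  let M : Subgroup G := N ⊓ Y
  have hMn : M.Normal := by
    haveI := hN; haveI := hY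
    exact inferInstanceAs (N ⊓ Y).Normal
  have hMab : ∀ a ∈ M, ∀ b ∈ M, a * b = b * a := fun a ha b hb =>
    comm_normalClosure (hNconj a ha.1) b hb.2
  have hMcard : Nat.card M ∣ (cz x).index := (Subgroup.card_dvd_of_le inf_le_left).trans hNcard
  have hmemM : ∀ h k : G, (h * y * h⁻¹) * (k * y * k⁻¹)⁻¹ ∈ M := fun h k =>
    ⟨hmem h k, Y.mul_mem (hyY h) (Y.inv_mem (hyY k))⟩
  refine ⟨M, hMn, hMab, ?_, hMcard, ?_⟩
  · -- `y ∈ M`
    letI : CommGroup M := { (inferInstance : Group M) with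
      mul_comm := fun a b => Subtype.ext (hMab a a.2 b b.2) }
    haveI : Fintype G := Fintype.ofFinite G
    haveI : Fintype (Cl y) := Fintype.ofFinite _
    have hb : Nat.card (Cl y) = (cz y).index := card_Cl y
    set b := Nat.card (Cl y) with hbdef
    have hcopb : (Nat.card M).Coprime b := by
      rw [hb]; exact Nat.Coprime.coprime_dvd_left hMcard hco
    -- elements of `M` from the class
    have hclM : ∀ u ∈ Cl y, u * y⁻¹ ∈ M := by
      rintro _ ⟨g, rfl⟩
      have := hmemM g 1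
      simpa using this
    let u : M := ∏ t : Cl y, ⟨(t : G) * y⁻¹, hclM t t.2⟩
    -- action of conjugation on M
    let cj : G → M → M := fun g m => ⟨g * m * g⁻¹, hMn.conj_mem m m.2 g⟩
    let cjh : G → (M →* M) := fun g =>
      { toFun := cj g
        map_one' := Subtype.ext (by simp [cj])
        map_mul' := fun a b => Subtype.ext (by simp [cj]) }
    let ψ : G → M := fun g => ⟨y * (g * y * g⁻¹)⁻¹, by have := hmemM 1 g; simpa using this⟩
    have hyc : ∀ t ∈ Cl y, ∀ g : G, t * (g * y⁻¹ * g⁻¹) = (t * y⁻¹) * (y * (g * y * g⁻¹)⁻¹) := by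
      intro t _ g
      group
    have hu : ∀ g : G, cjh g u = u * (ψ g) ^ b := by
      intro g
      have e1 : cjh g u = ∏ t : Cl y, cjh g ⟨(t : G) * y⁻¹, hclM t t.2⟩ := map_prod _ _ _
      let σ : Cl y ≃ Cl y :=
        { toFun := fun t => ⟨g * t * g⁻¹, by
            obtain ⟨h, hh⟩ := t.2
            exact ⟨g * h, by rw [← hh]; group⟩⟩
          invFun := fun t => ⟨g⁻¹ * t * g, by
            obtain ⟨h, hh⟩ := t.2
            exact ⟨g⁻¹ * h, by rw [← hh]; group⟩⟩
          left_inv := fun t => Subtype.ext (by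
            show g⁻¹ * (g * t * g⁻¹) * g = t
            group)
          right_inv := fun t => Subtype.ext (by
            show g * (g⁻¹ * t * g) * g⁻¹ = t
            group) }
      have e2 : ∀ t : Cl y, cjh g ⟨(t : G) * y⁻¹, hclM t t.2⟩ =
          ⟨((σ t : Cl y) : G) * y⁻¹, hclM (σ t) (σ t).2⟩ * ψ g := by
        intro t
        apply Subtype.ext
        show g * ((t : G) * y⁻¹) * g⁻¹ = (g * t * g⁻¹) * y⁻¹ * (y * (g * y * g⁻¹)⁻¹)
        group
      rw [e1, Finset.prod_congr rfl (fun t _ => e2 t), Finset.prod_mul_distrib]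
      congr 1
      · exact Equiv.prod_comp σ (fun t : Cl y => (⟨(t : G) * y⁻¹, hclM t t.2⟩ : M))
      · rw [Finset.prod_const, Finset.card_univ, ← Nat.card_eq_fintype_card]
    -- the `b`-th power map is bijective on `M`
    have hpow : Function.Bijective (fun m : M => m ^ b) := (powCoprime hcopb).bijective
    obtain ⟨w, hw⟩ := hpow.2 u
    have hw' : w ^ b = u := hw
    have hwg : ∀ g : G, cjh g w = w * ψ g := by
      intro g
      apply hpow.1
      show (cjh g w) ^ b = (w * ψ g) ^ b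
      rw [← map_pow, hw', hu g, mul_pow, hw']
    have hcen : (w : G) * y ∈ Subgroup.center G := by
      rw [Subgroup.mem_center_iff]
      intro g
      have h1 : g * (w : G) * g⁻¹ = w * (y * (g * y * g⁻¹)⁻¹) := congrArg Subtype.val (hwg g)
      calc g * ((w : G) * y) = (g * (w : G) * g⁻¹) * (g * y * g⁻¹) * g := by group
        _ = (w * (y * (g * y * g⁻¹)⁻¹)) * (g * y * g⁻¹) * g := by rw [h1]
        _ = w * y * g := by group
    rw [hZ, Subgroup.mem_bot] at hcen
    have : y = (w : G)⁻¹ := (inv_eq_of_mul_eq_one_right hcen).symm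
    rw [this]
    exact M.inv_mem w.2
  · intro m hm
    have h1 := (hm.1 x (IsConj.refl x)).1
    obtain ⟨g, hg⟩ := isConj_iff.1 h1
    exact ⟨g, hg.symm⟩

end Cfsg.Agent.H46CS
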