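import Cfsg.Agent.H46CS.Def
import Cfsg.Agent.H35.CRc
import Cfsg.Agent.S4033
import Cfsg.Agent.S4034
import Cfsg.Agent.S0144

set_option autoImplicit false
set_option linter.all false

namespace Cfsg.Agent.H46CS

open Cfsg.Agent.H35.CR Cfsg.Agent.SC

universe u

variable {G : Type u} [Group G] [Finite G]

theorem cz_mul_eq {v w : G} (hvw : v * w = w * v) (hcop : (orderOf v).Coprime (orderOf w)) :
    cz (v * w) = cz v ⊓ cz w := by
  apply le_antisymm
  · exact le_inf (cz_mul_le hvw hcop) (cz_mul_le' hvw hcop)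
  · rintro x ⟨h1, h2⟩
    rw [mem_cz]
    exact (show Commute x v from mem_cz.1 h1).mul_right (mem_cz.1 h2)

theorem card_cent {v : G} (w : cz v) (hcop : (orderOf v).Coprime (orderOf w)) :
    Nat.card (Subgroup.centralizer ({w} : Set (cz v))) = c (v * (w : G)) := by
  have h1 : (Subgroup.centralizer ({w} : Set (cz v))).map (cz v).subtype = cz (v * (w : G)) := by
    rw [cz_mul_eq (mem_cz.1 w.2).symm (by rw [Subgroup.orderOf_coe]; exact hcop)]
    ext x
    simp only [Subgroup.mem_map, Subgroup.mem_inf]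
    constructor
    · rintro ⟨a, ha, rfl⟩
      refine ⟨a.2, ?_⟩
      rw [mem_cz]
      exact congrArg Subtype.val (Subgroup.mem_centralizer_singleton_iff.1 ha)
    · rintro ⟨h1, h2⟩
      refine ⟨⟨x, h1⟩, ?_, rfl⟩
      rw [Subgroup.mem_centralizer_singleton_iff]
      exact Subtype.ext (mem_cz.1 h2)
  show _ = Nat.card (cz (v * (w : G)))
  rw [← h1, Subgroup.card_map_of_injective (cz v).subtype_injective]

/-- groups with two sizes of `p`-regular classes -/
theorem primes_of {H : Type u} [Group H] [Finite H] {p t : ℕ} (hp : p.Prime) (ht : t.Prime) (hpt : p ≠ t) {y : H}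
    (hy : orderOf y = t) (hyc : (Subgroup.centralizer ({y} : Set H)).index ≠ 1)
    (hall : ∀ x : H, (orderOf x).Coprime p → (Subgroup.centralizer ({x} : Set H)).index = 1 ∨
      (Subgroup.centralizer ({x} : Set H)).index = (Subgroup.centralizer ({y} : Set H)).index)
    (s : ℕ) (hs : s.Prime) (hsd : s ∣ (Subgroup.centralizer ({y} : Set H)).index) : s = p ∨ s = t := by
  have hyp : (orderOf y).Coprime p := by rw [hy]; exact (Nat.coprime_primes ht hp).2 (Ne.symm hpt)
  have h2 : Set.ncard (Set.range fun x : {x : H // (orderOf x).Coprime p} =>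
      (ConjClasses.mk (x : H)).carrier.ncard) = 2 := by
    have : (Set.range fun x : {x : H // (orderOf x).Coprime p} => (ConjClasses.mk (x : H)).carrier.ncard) =
        {1, (Subgroup.centralizer ({y} : Set H)).index} := by
      ext k
      simp only [Set.mem_range, Set.mem_insert_iff, Set.mem_singleton_iff]
      constructor
      · rintro ⟨x, rfl⟩
        rw [H67.ncard_carrier_eq_index]
        exact hall x x.2
      · rintro (rfl | rfl)
        · refine ⟨⟨1, by simp⟩, ?_⟩
          show (ConjClasses.mk (1 : H)).carrier.ncard = 1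
          rw [H67.ncard_carrier_eq_index, Subgroup.index_eq_one, eq_top_iff]
          intro g _
          rw [Subgroup.mem_centralizer_singleton_iff]
          simp
        · exact ⟨⟨y, hyp⟩, H67.ncard_carrier_eq_index _⟩
    rw [this]
    exact Set.ncard_pair (Ne.symm hyc)
  rcases Cfsg.Agent.S4033.result hp h2 with h3 | ⟨q, hq, P, Q, A, hqp, hA, hPQ, hn, hinf, hsup⟩
  · left
    obtain ⟨k, hk⟩ := (Cfsg.Agent.S4034.result hp).2 h3 y hyp
    rw [H67.ncard_carrier_eq_index] at hk
    rw [hk] at hsd
    exact (Nat.prime_dvd_prime_iff_eq hs hp).1 (hs.dvd_of_dvd_pow hsd)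
  · haveI : Fact p.Prime := ⟨hp⟩
    set K : Subgroup H := (P : Subgroup H) ⊔ (Q : Subgroup H) with hK
    have hAn : A.Normal := by
      refine ⟨fun a ha g => ?_⟩
      have := Subgroup.mem_center_iff.1 (hA ha) g
      rw [this]
      simpa using ha
    have hAi : A.index = Nat.card K := by
      have : Subgroup.IsComplement' K A := by
        apply Subgroup.isComplement'_of_disjoint_and_mul_eq_univ
        · rw [disjoint_iff]; exact hinf
        · rw [← Subgroup.mul_normal, hsup]
          rfl
      exact this.index_eq_card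
    have hcA : A ≤ Subgroup.centralizer ({y} : Set H) := by
      intro a ha
      rw [Subgroup.mem_centralizer_singleton_iff]
      exact (Subgroup.mem_center_iff.1 (hA ha) y).symm
    have hdvd : (Subgroup.centralizer ({y} : Set H)).index ∣ Nat.card P * Nat.card Q := by
      rw [← hPQ, ← hAi]
      exact Subgroup.index_dvd_of_le hcA
    have hPs : ∀ s : ℕ, s.Prime → s ∣ Nat.card P → s = p := by
      intro s hs h
      obtain ⟨k, hk⟩ := IsPGroup.iff_card.1 P.isPGroup'
      rw [hk] at h
      exact (Nat.prime_dvd_prime_iff_eq hs hp).1 (hs.dvd_of_dvd_pow h)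
    have hQs : ∀ s : ℕ, s.Prime → s ∣ Nat.card Q → s = q := by
      intro s hs h
      obtain ⟨k, hk⟩ := IsPGroup.iff_card.1 Q.isPGroup'
      rw [hk] at h
      exact (Nat.prime_dvd_prime_iff_eq hs hq.out).1 (hs.dvd_of_dvd_pow h)
    -- `q = t`
    have hqt : q = t := by
      by_contra hqt
      have h4 : (orderOf y).Coprime A.index := by
        rw [hy, hAi, hPQ, ht.coprime_iff_not_dvd]
        intro h
        rcases (ht.dvd_mul).1 h with h | h
        · exact hpt (hPs t ht h).symm
        · exact hqt (hQs t ht h).symm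
      have h5 : y ∈ A := by
        have h6 : orderOf (QuotientGroup.mk y : H ⧸ A) = 1 := by
          exact Nat.Coprime.eq_one_of_dvd
            (h4.coprime_dvd_left (orderOf_map_dvd (QuotientGroup.mk' A) y))
            (by rw [Subgroup.index]; exact orderOf_dvd_natCard _)
        rw [orderOf_eq_one_iff, QuotientGroup.eq_one_iff] at h6
        exact h6
      apply hyc
      rw [Subgroup.index_eq_one, eq_top_iff]
      intro g _
      rw [Subgroup.mem_centralizer_singleton_iff]
      exact Subgroup.mem_center_iff.1 (hA h5) g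
    rcases (hs.dvd_mul).1 (hsd.trans hdvd) with h | h
    · exact Or.inl (hPs s hs h)
    · exact Or.inr ((hQs s hs h).trans hqt)

theorem index_cent {v : G} (w : cz v) (hcop : (orderOf v).Coprime (orderOf w)) :
    (Subgroup.centralizer ({w} : Set (cz v))).index * c (v * (w : G)) = c v := by
  rw [← card_cent w hcop, mul_comm]
  exact Subgroup.card_mul_index _

namespace D3

variable {n1 n2 n3 : ℕ} (h : D3 G n1 n2 n3)

include h

theorem not_full {x : G} (hx : x ≠ 1) : ¬ ∀ g : G, g ≠ 1 → c g ∣ c x := by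
  intro hd
  have h1 : c x = Nat.card G := by
    apply Nat.dvd_antisymm (Subgroup.card_subgroup_dvd_card _)
    apply (Nat.dvd_iff_prime_pow_dvd_dvd _ _).2
    intro p k hp hk
    rcases Nat.eq_zero_or_pos k with h0 | h0
    · rw [h0, pow_zero]; exact one_dvd _
    · have hpG : p ∣ Nat.card G := (dvd_pow_self p h0.ne').trans hk
      obtain ⟨z, hz, hzk⟩ := exists_full hp hpG
      exact (hzk k hk).trans (hd z (ne_one_of_prime hp hz))
  have h2 : cz x = ⊤ := Subgroup.eq_top_of_card_eq _ h1
  apply hx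
  have h3 : x ∈ Subgroup.center G := by
    rw [Subgroup.mem_center_iff]
    intro g
    have : g ∈ cz x := by rw [h2]; trivial
    exact mem_cz.1 this
  rw [h.hZ] at h3
  exact Subgroup.mem_bot.1 h3

theorem not_dvd32 (d12 : n1 ∣ n2) : ¬ n3 ∣ n2 := by
  intro hd
  obtain ⟨x, hx, hx2⟩ := h.ex2
  apply h.not_full hx
  intro g hg
  rw [hx2]
  rcases h.hall g hg with h1 | h1 | h1 <;> rw [h1]
  · exact d12
  · exact hd

theorem symm : D3 G n1 n3 n2 where
  ns := h.ns
  hZ := h.hZ
  hall := fun g hg => by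
    rcases h.hall g hg with h1 | h1 | h1
    · exact Or.inl h1
    · exact Or.inr (Or.inr h1)
    · exact Or.inr (Or.inl h1)
  h12 := h.h13
  h13 := h.h12
  h23 := h.h23.symm
  ex1 := h.ex1
  ex2 := h.ex3
  ex3 := h.ex2

theorem primes (d12 : n1 ∣ n2) (d13 : n1 ∣ n3) {r t : ℕ} (hr : r.Prime) (ht : t.Prime)
    (hrt : r ≠ t) {v y : G} (hv : orderOf v = r) (hy : orderOf y = t) (hcv : c v = n2) (hcy : c y = n3) (hyv : y ∈ cz v)
    {s m : ℕ} (hs : s.Prime) (hm : n2 = m * n1) (hsm : s ∣ m) : s = r ∨ s = t := by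
  have hv1 : v ≠ 1 := ne_one_of_prime hr hv
  have hn1 : 0 < n1 := by
    obtain ⟨x, _, hx⟩ := h.ex1
    rw [← hx]; exact c_pos x
  have cc : ∀ w : cz v, (orderOf (w : G)).Coprime r → c (v * (w : G)) ∣ n2 ∧ (c (v * (w : G)) = n1 ∨ c (v * (w : G)) = n2) := by
    intro w hw
    have hcop : (orderOf v).Coprime (orderOf (w : G)) := by rw [hv]; exact hw.symm
    have h1 : c (v * (w : G)) ∣ n2 := by
      rw [← hcv]
      exact c_dvd (cz_mul_le (mem_cz.1 w.2).symm hcop)
    refine ⟨h1, ?_⟩
    have hne : v * (w : G) ≠ 1 := by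
      intro h0
      have h2 : (w : G) = v⁻¹ := (inv_eq_of_mul_eq_one_right h0).symm
      rw [h2, orderOf_inv, Nat.coprime_self] at hcop
      exact hv1 (orderOf_eq_one_iff.1 hcop)
    rcases h.hall _ hne with h2 | h2 | h2
    · exact Or.inl h2
    · exact Or.inr h2
    · exfalso
      rw [h2] at h1
      exact h.not_dvd32 d12 h1
  set y' : cz v := ⟨y, hyv⟩ with hy'
  have hyr : (orderOf y).Coprime r := by rw [hy]; exact (Nat.coprime_primes ht hr).2 (Ne.symm hrt)
  have hcy' : c (v * y) = n1 := by
    rcases (cc y' hyr).2 with h1 | h1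
    · exact h1
    · exfalso
      apply h.symm.not_dvd32 d13
      have h1' : c (v * y) = n2 := h1
      rw [← h1', ← hcy]
      exact c_dvd (cz_mul_le' (mem_cz.1 hyv).symm (by rw [hv]; exact hyr.symm))
  have hidx : ∀ w : cz v, (orderOf w).Coprime r →
      (Subgroup.centralizer ({w} : Set (cz v))).index * c (v * (w : G)) = n2 := by
    intro w hw
    rw [← hcv]
    exact index_cent w (by rw [hv]; exact hw.symm)
  have hyi : (Subgroup.centralizer ({y'} : Set (cz v))).index = m := by
    have h1 := hidx y' (by rw [← Subgroup.orderOf_coe]; exact hyr)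
    rw [show c (v * (y' : G)) = n1 from hcy', hm] at h1
    exact Nat.eq_of_mul_eq_mul_right hn1 h1
  have hm1 : m ≠ 1 := by
    rintro rfl
    rw [one_mul] at hm
    exact h.h12 hm.symm
  refine primes_of (H := cz v) hr ht hrt (y := y') (by rw [← Subgroup.orderOf_coe]; exact hy) (by rw [hyi]; exact hm1)
    ?_ s hs (by rw [hyi]; exact hsm)
  intro x hx
  have h1 := hidx x hx
  rcases (cc x (by rw [Subgroup.orderOf_coe]; exact hx)).2 with h2 | h2
  · right
    rw [hyi]
    rw [h2, hm] at h1
    exact Nat.eq_of_mul_eq_mul_right hn1 h1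
  · left
    rw [h2] at h1
    have hn2 : 0 < n2 := by rw [← hcv]; exact c_pos v
    exact Nat.eq_of_mul_eq_mul_right hn2 (by rw [h1, one_mul])

end D3

theorem star {n1 n2 n3 : ℕ} (h : D3 G n1 n2 n3) (d12 : n1 ∣ n2) (d13 : n1 ∣ n3) {r t : ℕ} (hr : r.Prime) (ht : t.Prime)
    (hrt : r ≠ t) {v y : G} (hv : orderOf v = r) (hy : orderOf y = t) (hcv : c v = n2) (hcy : c y = n3) :
    y ∉ cz v := by
  intro hyv
  obtain ⟨x1, hx1, hcx1⟩ := h.ex1
  have hv1 : v ≠ 1 := ne_one_of_prime hr hv
  have hy1 : y ≠ 1 := ne_one_of_prime ht hy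
  obtain ⟨m2, hm2⟩ := d12
  obtain ⟨m3, hm3⟩ := d13
  have p2 : ∀ s : ℕ, s.Prime → s ∣ m2 → s = r ∨ s = t := fun s hs hsm =>
    h.primes ⟨m2, hm2⟩ ⟨m3, hm3⟩ hr ht hrt hv hy hcv hcy hyv hs (by rw [hm2, mul_comm]) hsm
  have p3 : ∀ s : ℕ, s.Prime → s ∣ m3 → s = r ∨ s = t := fun s hs hsm =>
    (h.symm.primes ⟨m3, hm3⟩ ⟨m2, hm2⟩ ht hr (Ne.symm hrt) hy hv hcy hcv (mem_cz_symm hyv) hs
      (by rw [hm3, mul_comm]) hsm).symm
  have hcop : (cz v).index.Coprime (cz y).index := by
    apply cop_index
    intro g hg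
    rcases h.hall g hg with h1 | h1 | h1 <;> rw [h1, hcv, hcy]
    · exact Or.inl ⟨m2, hm2⟩
    · exact Or.inl dvd_rfl
    · exact Or.inr dvd_rfl
  have i2 : (cz x1).index = m2 * (cz v).index := by
    have h1 := (cz x1).card_mul_index
    have h2 := (cz v).card_mul_index
    apply Nat.eq_of_mul_eq_mul_left (c_pos x1)
    calc c x1 * (cz x1).index = Nat.card G := h1
      _ = c v * (cz v).index := h2.symm
      _ = c x1 * (m2 * (cz v).index) := by rw [hcv, hm2, hcx1]; ring
  have i3 : (cz x1).index = m3 * (cz y).index := by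
    have h1 := (cz x1).card_mul_index
    have h2 := (cz y).card_mul_index
    apply Nat.eq_of_mul_eq_mul_left (c_pos x1)
    calc c x1 * (cz x1).index = Nat.card G := h1
      _ = c y * (cz y).index := h2.symm
      _ = c x1 * (m3 * (cz y).index) := by rw [hcy, hm3, hcx1]; ring
  -- every prime divisor of `|G|` divides `|G| / n1`
  have hall : ∀ s : ℕ, s.Prime → s ∣ Nat.card G → s ∣ (cz x1).index := by
    intro s hs hsG
    by_contra hcon
    haveI : Fact s.Prime := ⟨hs⟩
    have h1 : ∀ g : G, ¬ s ∣ (Subgroup.centralizer ({g} : Set G)).index := by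
      intro g hd
      by_cases hg : g = 1
      · subst hg
        have : Subgroup.centralizer ({(1 : G)} : Set G) = ⊤ := by
          rw [eq_top_iff]
          intro g _
          rw [Subgroup.mem_centralizer_singleton_iff]
          simp
        rw [this, Subgroup.index_top] at hd
        exact hs.one_lt.ne' (Nat.dvd_one.1 hd)
      · apply hcon
        rcases h.hall g hg with h1 | h1 | h1
        · rwa [index_eq (h1.trans hcx1.symm)] at hd
        · rw [i2]
          rw [index_eq (h1.trans hcv.symm)] at hd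
          exact hd.mul_left _
        · rw [i3]
          rw [index_eq (h1.trans hcy.symm)] at hd
          exact hd.mul_left _
    have h2 := H69.sylow_le_center_of_forall_not_dvd h1 (default : Sylow s G)
    rw [h.hZ, le_bot_iff] at h2
    exact (default : Sylow s G).ne_bot_of_dvd_card hsG h2
  have hrt' : ∀ s : ℕ, s.Prime → s ∣ Nat.card G → s = r ∨ s = t := by
    intro s hs hsG
    have h1 := hall s hs hsG
    by_contra hcon
    have h2 : s ∣ (cz v).index := by
      rw [i2] at h1
      rcases (hs.dvd_mul).1 h1 with h2 | h2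
      · exact absurd (p2 s hs h2) hcon
      · exact h2
    have h3 : s ∣ (cz y).index := by
      rw [i3] at h1
      rcases (hs.dvd_mul).1 h1 with h2 | h2
      · exact absurd (p3 s hs h2) hcon
      · exact h2
    exact Nat.not_coprime_of_dvd_of_dvd hs.one_lt h2 h3 hcop
  -- so `|G| = r^a t^b`
  obtain ⟨a, m, hm, hGa⟩ := Nat.exists_eq_pow_mul_and_not_dvd (Nat.card_pos (α := G)).ne' r hr.ne_one
  have hm0 : m ≠ 0 := by
    rintro rfl
    exact hm (dvd_zero _)
  have hmt : m = t ^ m.primeFactorsList.length := by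
    apply Nat.eq_prime_pow_of_unique_prime_dvd hm0
    intro q hq hqm
    rcases hrt' q hq (hqm.trans ⟨r ^ a, by rw [hGa, mul_comm]⟩) with h1 | h1
    · exfalso
      rw [h1] at hqm
      exact hm hqm
    · exact h1
  exact h.ns (Cfsg.Agent.S0144.result r t a _ hr ht (hGa.trans (by rw [← hmt])))

end Cfsg.Agent.H46CS
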