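import Cfsg.Agent.H46CS.Def
import Cfsg.Agent.S4033
import Cfsg.Agent.S0564
import Cfsg.Agent.S0144
import Cfsg.Agent.H67.Basic

/-!
# S4137: the centralizers of type 3 are solvable
-/

set_option autoImplicit false
set_option linter.unusedSectionVars false

namespace Cfsg.Agent.H46CS

open Cfsg.Agent.H35.CR Cfsg.Agent.SC

universe u

theorem solvable_of_reg {H : Type u} [Group H] [Finite H] {s b : ℕ} (hs : s.Prime)
    (hall : ∀ x : H, (orderOf x).Coprime s → (cz x).index = 1 ∨ (cz x).index = b) : Group.IsSolvable H := by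
  classical
  have : Fact s.Prime := ⟨hs⟩
  by_cases hex : ∃ x : H, (orderOf x).Coprime s ∧ (cz x).index ≠ 1
  · obtain ⟨x0, hx0, hx1⟩ := hex
    have hb : (cz x0).index = b := (hall x0 hx0).resolve_left hx1
    have hrange : Set.range (fun x : {x : H // (orderOf x).Coprime s} => (ConjClasses.mk (x : H)).carrier.ncard) =
        {1, b} := by
      ext k
      constructor
      · rintro ⟨x, rfl⟩
        show (ConjClasses.mk (x : H)).carrier.ncard ∈ _
        rw [Cfsg.Agent.H67.ncard_carrier_eq_index]
        exact hall x x.2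
      · rintro (rfl | hk)
        · refine ⟨⟨1, by rw [orderOf_one]; exact Nat.coprime_one_left s⟩, ?_⟩
          show (ConjClasses.mk (1 : H)).carrier.ncard = _
          rw [Cfsg.Agent.H67.ncard_carrier_eq_index, Subgroup.index_eq_one, eq_top_iff]
          intro g _
          exact Subgroup.mem_centralizer_singleton_iff.2 (by rw [mul_one, one_mul])
        · rw [Set.mem_singleton_iff] at hk
          subst hk
          refine ⟨⟨x0, hx0⟩, ?_⟩
          show (ConjClasses.mk x0).carrier.ncard = _
          rw [Cfsg.Agent.H67.ncard_carrier_eq_index]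
          exact hb
    have h2 : Set.ncard (Set.range (fun x : {x : H // (orderOf x).Coprime s} =>
        (ConjClasses.mk (x : H)).carrier.ncard)) = 2 := by
      rw [hrange]
      exact Set.ncard_pair (by rw [← hb]; exact fun h => hx1 h.symm)
    rcases Cfsg.Agent.S4033.result hs h2 with ⟨K, hK, hKs, k, hk⟩ | ⟨q, hq, P, Q, A, hqp, hA, hcard, hn, hinf, hsup⟩
    · obtain ⟨S⟩ : Nonempty (Sylow s H) := inferInstance
      have hcK : (Nat.card S).Coprime (Nat.card K) := by
        obtain ⟨j, hj⟩ := IsPGroup.iff_card.1 S.2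
        rw [hj]
        exact Nat.Coprime.pow_left _ ((Nat.Prime.coprime_iff_not_dvd hs).2 hKs)
      have hSK : Nat.card S * Nat.card K = Nat.card H := by
        have h3 : Nat.card S * Nat.card K ∣ Nat.card H :=
          hcK.mul_dvd_of_dvd_of_dvd (Subgroup.card_subgroup_dvd_card _) (Subgroup.card_subgroup_dvd_card _)
        have h4 := K.card_mul_index
        have h5 : K.index ∣ Nat.card S := by
          rw [hk]
          exact S.pow_dvd_card_of_pow_dvd_card (by rw [← hk]; exact K.index_dvd_card)
        refine Nat.dvd_antisymm h3 ?_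
        rw [← h4, mul_comm]
        exact Nat.mul_dvd_mul_right h5 _
      have hcomp : Subgroup.IsComplement' (S : Subgroup H) K := Subgroup.isComplement'_of_coprime hSK hcK
      refine Cfsg.Agent.S0564.result (S : Subgroup H) K S.2.isNilpotent ?_ ?_
      · have := hK
        letI : CommGroup K := { (inferInstance : Group K) with mul_comm := fun a b => hK.is_comm.comm a b }
        exact CommGroup.isNilpotent
      · intro g
        obtain ⟨⟨a, b⟩, hab⟩ := hcomp.2 g
        exact ⟨a, a.2, b, b.2, hab.symm⟩
    · obtain ⟨i, hi⟩ := IsPGroup.iff_card.1 P.2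
      obtain ⟨j, hj⟩ := IsPGroup.iff_card.1 Q.2
      set N := (P : Subgroup H) ⊔ (Q : Subgroup H) with hN
      have hNsol : Group.IsSolvable N := by
        refine Cfsg.Agent.S0144.result s q i j hs hq.out ?_
        rw [hcard, ← hi, ← hj]
      have hq' : Group.IsSolvable (H ⧸ N) := by
        apply Group.isSolvable_of_comm
        intro a b
        have hrep : ∀ a : H ⧸ N, ∃ x ∈ A, (QuotientGroup.mk x : H ⧸ N) = a := by
          intro a
          obtain ⟨g, rfl⟩ := QuotientGroup.mk_surjective a
          have hg : g ∈ N ⊔ A := by rw [hsup]; trivial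
          obtain ⟨n, hn', x, hx, rfl⟩ := Subgroup.mem_sup_of_normal_left.1 hg
          refine ⟨x, hx, ?_⟩
          rw [QuotientGroup.mk_mul, (QuotientGroup.eq_one_iff n).2 hn', one_mul]
        obtain ⟨x, hx, rfl⟩ := hrep a
        obtain ⟨y, hy, rfl⟩ := hrep b
        rw [← QuotientGroup.mk_mul, ← QuotientGroup.mk_mul, (Subgroup.mem_center_iff.1 (hA hx) y)]
      exact (Group.isSolvable_iff_subgroup_quotient N).2 ⟨hNsol, hq'⟩
  · push Not at hex
    have hcen : ∀ x : H, (orderOf x).Coprime s → x ∈ Subgroup.center H := by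
      intro x hx
      have h1 := hex x hx
      rw [Subgroup.index_eq_one] at h1
      rw [Subgroup.mem_center_iff]
      intro g
      have : g ∈ cz x := by rw [h1]; trivial
      exact mem_cz.1 this
    have hq : IsPGroup s (H ⧸ Subgroup.center H) := by
      intro a
      obtain ⟨x, rfl⟩ := QuotientGroup.mk_surjective a
      refine ⟨(orderOf x).factorization s, ?_⟩
      rw [← QuotientGroup.mk_pow, QuotientGroup.eq_one_iff]
      apply hcen
      have hx0 : orderOf x ≠ 0 := (orderOf_pos x).ne'
      rw [orderOf_pow, Nat.gcd_eq_right (Nat.ordProj_dvd _ _)]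
      exact (Nat.coprime_ordCompl hs hx0).symm
    have hqs : Group.IsSolvable (H ⧸ Subgroup.center H) := by
      have := hq.isNilpotent
      infer_instance
    have hzs : Group.IsSolvable (Subgroup.center H) :=
      Group.isSolvable_of_comm (fun a b => Subtype.ext (Subgroup.mem_center_iff.1 b.2 a))
    exact (Group.isSolvable_iff_subgroup_quotient _).2 ⟨hzs, hqs⟩

/-- the order of a centralizer inside a subgroup -/
theorem card_cz_sub {G : Type u} [Group G] (H : Subgroup G) (x : H) :
    Nat.card (cz x) = Nat.card (H ⊓ cz (x : G) : Subgroup G) := by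
  have h1 : cz x = (H ⊓ cz (x : G)).subgroupOf H := by
    ext y
    rw [Subgroup.mem_subgroupOf, Subgroup.mem_inf, mem_cz, mem_cz]
    constructor
    · intro h; exact ⟨y.2, congrArg Subtype.val h⟩
    · rintro ⟨_, h⟩; exact Subtype.ext h
  rw [h1]
  exact Nat.card_congr (Subgroup.subgroupOfEquivOfLe inf_le_left).toEquiv

variable {G : Type u} [Group G] [Finite G] {n1 n2 n3 : ℕ}

theorem cz_mul_inf {v x : G} (hx : x ∈ cz v) (hco : (orderOf v).Coprime (orderOf x)) :
    cz (v * x) = cz v ⊓ cz x := by
  have hc : v * x = x * v := (mem_cz.1 hx).symm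
  apply le_antisymm
  · exact le_inf (cz_mul_le hc hco) (cz_mul_le' hc hco)
  · intro g hg
    rw [mem_cz]
    have h1 := mem_cz.1 hg.1
    have h2 := mem_cz.1 hg.2
    calc g * (v * x) = (g * v) * x := by group
      _ = v * (g * x) := by rw [h1, mul_assoc]
      _ = v * x * g := by rw [h2, mul_assoc]

theorem dvd_c_of_mem {v x : G} (hx : x ∈ cz v) : orderOf x ∣ c v := by
  have := orderOf_dvd_natCard (⟨x, hx⟩ : cz v)
  rwa [← Subgroup.orderOf_coe] at this

theorem D3.hsol (h : D3 G n1 n2 n3) {v : G} {s : ℕ} (hs : s.Prime) (hv : orderOf v = s) (hcv : c v = n3)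
    (hsn : ¬ s ∣ n2) : Group.IsSolvable (cz v) := by
  apply solvable_of_reg (s := s) (b := n3 / n1) hs
  intro x hx
  have hco : (orderOf v).Coprime (orderOf (x : G)) := by
    rw [hv, Subgroup.orderOf_coe]; exact hx.symm
  have h1 := cz_mul_inf x.2 hco
  have hvx : s ∣ orderOf (v * (x : G)) := by
    rw [(show Commute v (x : G) from (mem_cz.1 x.2).symm).orderOf_mul_eq_mul_orderOf_of_coprime hco, hv]
    exact Dvd.intro _ rfl
  have hne : v * (x : G) ≠ 1 := by
    intro h1
    rw [h1, orderOf_one, Nat.dvd_one] at hvx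
    exact hs.one_lt.ne' hvx
  have hcard : Nat.card (cz x) = c (v * (x : G)) := by
    rw [card_cz_sub, c, h1]
  have hmul := (cz x).card_mul_index
  have hn30 : 0 < n3 := hcv ▸ c_pos v
  rcases h.hall _ hne with h2 | h2 | h2
  · right
    rw [hcard, h2] at hmul
    have h3 : Nat.card (cz v) = n3 := hcv
    rw [h3] at hmul
    have hn10 : 0 < n1 := h2 ▸ c_pos _
    rw [← hmul, Nat.mul_div_cancel_left _ hn10]
  · exfalso
    apply hsn
    rw [← h2]
    exact hvx.trans (dvd_c_of_mem (self_mem _))
  · left
    rw [hcard, h2] at hmul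
    have h3 : Nat.card (cz v) = n3 := hcv
    rw [h3] at hmul
    exact Nat.eq_of_mul_eq_mul_left hn30 (by rw [hmul, mul_one])

end Cfsg.Agent.H46CS
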