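import Cfsg.Agent.H46CS.Def
import Cfsg.Agent.H35.CRc
import Cfsg.Agent.Solv.Core
import Cfsg.Agent.Frob.Basic
import Cfsg.Agent.S0033
import Cfsg.Agent.S0035
import Cfsg.Agent.S0042
import Cfsg.Agent.S0564

/-!
# S4137, piece U2: situation U with nontrivial Fitting subgroup of order prime to `n2` (helper64 for helper46)
-/

set_option autoImplicit false
set_option linter.style.haveILetI false
set_option linter.unusedSectionVars false

namespace Cfsg.Agent.H46CS

open Cfsg.Agent.H35.CR Cfsg.Agent.SC

universe u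

namespace U2

/-- an element of prime order acting without fixed points on a normal subgroup makes it nilpotent -/
theorem nilp_of_fpf {T : Type u} [Group T] [Finite T] (N : Subgroup T) [hN : N.Normal] (hN1 : N ≠ ⊥) {a : T} {p : ℕ}
    (hp : p.Prime) (ha : orderOf a = p) (hfix : ∀ n ∈ N, n * a = a * n → n = 1) : Group.IsNilpotent N := by
  obtain ⟨w, hw, hw1⟩ : ∃ w ∈ N, w ≠ 1 := by
    by_contra hcon
    push Not at hcon
    exact hN1 ((Subgroup.eq_bot_iff_forall N).2 hcon)
  haveI : Fact p.Prime := ⟨hp⟩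
  let φ : N ≃* N := MulAut.conjNormal a
  have hφ : ∀ x : N, ((φ x : N) : T) = a * x * a⁻¹ := fun x => MulAut.conjNormal_apply a x
  have hcomm : ∀ x ∈ N, a * x * a⁻¹ = x → x = 1 := by
    intro x hx h
    apply hfix x hx
    rw [mul_inv_eq_iff_eq_mul] at h
    exact h.symm
  have hφp : orderOf φ = p := by
    apply orderOf_eq_prime
    · change (MulAut.conjNormal a) ^ p = (1 : MulAut N)
      rw [← map_pow, ← ha, pow_orderOf_eq_one, map_one]
    · intro h1
      apply hw1
      apply hcomm w hw
      have h2 := hφ ⟨w, hw⟩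
      rw [h1] at h2
      exact h2.symm
  exact S0033.result φ (fun x hx => by
    apply Subtype.ext
    apply hcomm x x.2
    rw [← hφ x]
    exact congrArg Subtype.val hx) p hp hφp

/-- version for an element normalizing a subgroup -/
theorem nilp_of_fpf' {G : Type u} [Group G] [Finite G] (N : Subgroup G) (hN1 : N ≠ ⊥) {a : G} {p : ℕ}
    (hp : p.Prime) (ha : orderOf a = p) (han : a ∈ Subgroup.normalizer (N : Set G))
    (hfix : ∀ n ∈ N, n * a = a * n → n = 1) : Group.IsNilpotent N := by
  set T := Subgroup.normalizer (N : Set G) with hT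
  have hle : N ≤ T := Subgroup.le_normalizer
  have h1 : Group.IsNilpotent (N.subgroupOf T) := by
    haveI : (N.subgroupOf T).Normal := Subgroup.normal_in_normalizer
    refine nilp_of_fpf (N.subgroupOf T) ?_ (a := ⟨a, han⟩) hp ?_ ?_
    · intro h
      rw [Subgroup.subgroupOf_eq_bot] at h
      exact hN1 (h.eq_bot_of_le hle)
    · rw [Subgroup.orderOf_mk, ha]
    · intro n hn h
      exact Subtype.ext (hfix n (Subgroup.mem_subgroupOf.1 hn) (congrArg Subtype.val h))
  exact (Group.isNilpotent_congr (Subgroup.subgroupOfEquivOfLe hle)).1 h1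

/-- a normal subgroup of order prime to the index of `K` lies in `K` -/
theorem le_of_coprime {G : Type u} [Group G] [Finite G] (N K : Subgroup G) [hN : N.Normal]
    (h : (Nat.card N).Coprime K.index) : N ≤ K := by
  rw [← Subgroup.relIndex_eq_one]
  have cmr : ∀ {A B : Subgroup G}, A ≤ B → Nat.card A * A.relIndex B = Nat.card B := by
    intro A B hAB
    rw [← Subgroup.relIndex_bot_left A, Subgroup.relIndex_mul_relIndex ⊥ A B bot_le hAB, Subgroup.relIndex_bot_left]
  have h2 : K.relIndex (N ⊔ K) = K.relIndex N := by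
    have e1 : Nat.card K * K.relIndex (N ⊔ K) = Nat.card (N ⊔ K : Subgroup G) :=
      cmr le_sup_right
    have e2 : Nat.card N * N.relIndex (N ⊔ K) = Nat.card (N ⊔ K : Subgroup G) :=
      cmr le_sup_left
    have e3 : N.relIndex (N ⊔ K) = N.relIndex K := Subgroup.relIndex_sup_left K N
    have e4 : Nat.card (N ⊓ K : Subgroup G) * (N ⊓ K).relIndex K = Nat.card K := cmr inf_le_right
    have e5 : Nat.card (N ⊓ K : Subgroup G) * (N ⊓ K).relIndex N = Nat.card N := cmr inf_le_left
    rw [Subgroup.inf_relIndex_right] at e4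
    rw [Subgroup.inf_relIndex_left] at e5
    have h5 : 0 < Nat.card K := Nat.card_pos
    apply Nat.eq_of_mul_eq_mul_left h5
    rw [e1, ← e2, e3, ← e5, ← e4]
    ring
  have h1 : K.relIndex N ∣ K.index := by
    rw [← h2]
    exact ⟨(N ⊔ K).index, (Subgroup.relIndex_mul_index le_sup_right).symm⟩
  exact Nat.Coprime.eq_one_of_dvd (Nat.Coprime.coprime_dvd_left (Subgroup.relIndex_dvd_card K N) h) h1

theorem dvd_c {G : Type u} [Group G] [Finite G] {a b : G} (hab : b ∈ cz a) : orderOf b ∣ c a := by
  have := orderOf_dvd_natCard (⟨b, hab⟩ : cz a)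
  rwa [← Subgroup.orderOf_coe] at this

/-- the map of conjugate centralizers -/
theorem cz_conj {G : Type u} [Group G] {v w : G} (h : cz v = cz w) (g : G) :
    cz (g * v * g⁻¹) = cz (g * w * g⁻¹) := by
  show Subgroup.centralizer {g * v * g⁻¹} = Subgroup.centralizer {g * w * g⁻¹}
  rw [conj_centralizer, conj_centralizer]
  exact congrArg (fun K => K.map (MulAut.conj g).toMonoidHom) h

/-- if all elements of prime power order of `J` lie in the normal subgroup `F`, then `J ≤ F` -/
theorem le_of_prime_power {G : Type u} [Group G] [Finite G] (F J : Subgroup G) [hF : F.Normal]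
    (h : ∀ a ∈ J, ∀ r k : ℕ, r.Prime → a ^ r ^ k = 1 → a ∈ F) : J ≤ F := by
  intro x hx
  by_contra hxF
  have h1 : orderOf (QuotientGroup.mk x : G ⧸ F) ≠ 1 := by
    intro h2
    rw [orderOf_eq_one_iff, QuotientGroup.eq_one_iff] at h2
    exact hxF h2
  obtain ⟨r, hr, hrx⟩ := Nat.exists_prime_and_dvd h1
  obtain ⟨a, b, ha, hb, hab, ⟨k, hk⟩, hrb⟩ := split x hr
  have haJ : a ∈ J := (Subgroup.zpowers_le.2 hx) ha
  have haF := h a haJ r k hr hk
  apply hrb
  have h2 : (QuotientGroup.mk x : G ⧸ F) = QuotientGroup.mk b := by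
    rw [hab, QuotientGroup.mk_mul, (QuotientGroup.eq_one_iff a).2 haF, one_mul]
  rw [h2] at hrx
  refine hrx.trans (orderOf_dvd_of_pow_eq_one ?_)
  rw [← QuotientGroup.mk_pow, pow_orderOf_eq_one, QuotientGroup.mk_one]

end U2

open U2

theorem U.u2 {G : Type u} [Group G] [Finite G] {n1 n2 n3 : ℕ} {D : Subgroup G} (h : U G n1 n2 n3 D)
    (hsol : ∀ v : G, ∀ s : ℕ, s.Prime → orderOf v = s → c v = n3 → Group.IsSolvable (cz v))
    (hF : Cfsg.fittingSubgroup G ≠ ⊥) (hcF : (Nat.card (Cfsg.fittingSubgroup G)).Coprime n2) : False := by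
  classical
  set F := Cfsg.fittingSubgroup G with hFdef
  haveI hFn : F.Normal := Solv.fitting_normal
  have hFnil : Group.IsNilpotent F := Solv.fitting_isNilpotent
  obtain ⟨x2, hx21, hx2⟩ := h.ex2
  have hn2 : n2 ≠ 1 := by
    intro h1
    apply hx21
    have h2 := dvd_c (self_mem x2)
    rw [hx2, h1, Nat.dvd_one] at h2
    exact orderOf_eq_one_iff.1 h2
  obtain ⟨x3, hx31, hx3⟩ := h.ex3
  have hn3pos : 0 < n3 := hx3 ▸ c_pos x3
  obtain ⟨p, hp, hpn⟩ := Nat.exists_prime_and_dvd hn2
  haveI : Fact p.Prime := ⟨hp⟩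
  obtain ⟨d0, hd0⟩ := exists_prime_orderOf_dvd_card' (G := D) p (by rw [h.card]; exact hpn)
  set d : G := (d0 : G) with hd
  have hdo : orderOf d = p := by rw [hd, Subgroup.orderOf_coe, hd0]
  have hd1 : d ≠ 1 := ne_one_of_prime hp hdo
  obtain ⟨y, hy, hy1⟩ : ∃ y ∈ F, y ≠ 1 := by
    by_contra hcon
    push Not at hcon
    exact hF ((Subgroup.eq_bot_iff_forall F).2 hcon)
  have hyo : (orderOf y).Coprime n2 := by
    have := orderOf_dvd_natCard (⟨y, hy⟩ : F)
    rw [← Subgroup.orderOf_coe] at this
    exact Nat.Coprime.coprime_dvd_left this hcF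
  -- the centralizer of `F`
  set C : Subgroup G := Subgroup.centralizer (F : Set G) with hC
  haveI hCn : C.Normal := Subgroup.normal_centralizer
  have hfix : ∀ x ∈ C, x * d = d * x → x = 1 := by
    intro x hx hxd
    by_contra hx1
    obtain ⟨r, k, hr, hrk⟩ := exists_prime_power hx1
    have hx'1 : x ^ k ≠ 1 := ne_one_of_prime hr hrk
    have hx'C : x ^ k ∈ C := C.pow_mem hx k
    by_cases hrn : r ∣ n2
    · refine h.nocomm hx'1 hy1 ?_ hyo ?_
      · rw [hrk]
        exact Nat.Coprime.coprime_dvd_left hrn h.cop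
      · rw [mem_cz]
        exact Subgroup.mem_centralizer_iff.1 hx'C y hy
    · refine h.nocomm hd1 hx'1 ?_ ?_ ?_
      · rw [hdo]
        exact Nat.Coprime.coprime_dvd_left hpn h.cop
      · rw [hrk]
        exact (Nat.Prime.coprime_iff_not_dvd hr).2 hrn
      · rw [mem_cz]
        exact ((show Commute x d from hxd).pow_left k)
  have hCF : C ≤ F := by
    by_cases hCb : C = ⊥
    · rw [hCb]; exact bot_le
    · exact Solv.le_fitting hCn (nilp_of_fpf C hCb hp hdo hfix)
  -- elements of type 3
  have hidx : ∀ z : G, c z = n3 → (cz z).index = n2 := by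
    intro z hz
    have h1 := (cz z).card_mul_index
    have h2 : n3 * (cz z).index = n3 * n2 := by
      rw [mul_comm n3 n2, h.mul, ← h1]
      show _ = c z * _
      rw [hz]
    exact Nat.eq_of_mul_eq_mul_left hn3pos h2
  have hFz : ∀ z : G, c z = n3 → F ≤ cz z := by
    intro z hz
    exact le_of_coprime F (cz z) (by rw [hidx z hz]; exact hcF)
  have hmemF : ∀ z : G, F ≤ cz z → z ∈ F := by
    intro z hz
    apply hCF
    rw [hC, Subgroup.mem_centralizer_iff]
    intro f hf
    exact mem_cz.1 (hz hf)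
  obtain ⟨s, q, v, w, hs, hq, hsq, hv, hw, hvw, hcv⟩ := h.vw
  have hcw : c w = n3 := by
    rw [← hcv]; unfold c; rw [hvw]
  have hv1 := ne_one_of_prime hs hv
  have hw1 := ne_one_of_prime hq hw
  have hvF : v ∈ F := hmemF v (hFz v hcv)
  have hwF : w ∈ F := hmemF w (hFz w hcw)
  have hn23 : ¬ n2 ∣ n3 := fun h1 => hn2 (Nat.Coprime.eq_one_of_dvd h.cop h1)
  have hmin1 : ∀ g : G, g ≠ 1 → c g ∣ n1 → c g = n1 := by
    intro g hg h1
    rcases h.hall g hg with h2 | h2 | h2
    · exact h2
    · exact absurd ((h2 ▸ h1 : n2 ∣ n1).trans h.d13) hn23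
    · exact absurd (Nat.dvd_antisymm h.d13 (h2 ▸ h1)) h.h13
  -- the intersections
  have key : ∀ g : G, cz (g * v * g⁻¹) ≠ cz v → cz v ⊓ cz (g * v * g⁻¹) = F := by
    intro g hg
    have hcz' := cz_conj hvw g
    set v' := g * v * g⁻¹ with hv'
    set w' := g * w * g⁻¹ with hw'
    have hv'F : v' ∈ F := hFn.conj_mem _ hvF g
    have hw'F : w' ∈ F := hFn.conj_mem _ hwF g
    have hcv' : c v' = n3 := by rw [hv', c_conj, hcv]
    have hcw' : c w' = n3 := by rw [hw', c_conj, hcw]
    have hov' : orderOf v' = s := by rw [hv', orderOf_conj, hv]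
    have how' : orderOf w' = q := by rw [hw', orderOf_conj, hw]
    have hFv := hFz v hcv
    have hFv' := hFz v' hcv'
    have hcomm : v * w' = w' * v := (mem_cz.1 (hFv hw'F)).symm
    have hcop : (orderOf v).Coprime (orderOf w') := by
      rw [hv, how']
      exact (Nat.coprime_primes hs hq).2 hsq
    have hz : cz (v * w') = cz v ⊓ cz v' := by
      apply le_antisymm
      · refine le_inf (cz_mul_le hcomm hcop) ?_
        rw [hcz']
        exact cz_mul_le' hcomm hcop
      · rintro x ⟨hx1, hx2⟩
        have hx2' : x ∈ cz w' := by rw [← hcz']; exact hx2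
        rw [mem_cz]
        exact Commute.mul_right (mem_cz.1 hx1) (mem_cz.1 hx2')
    have hne : v * w' ≠ 1 := by
      intro h1
      have h2 : w' = v⁻¹ := (inv_eq_of_mul_eq_one_right h1).symm
      rw [h2, orderOf_inv, Nat.coprime_self] at hcop
      exact hv1 (orderOf_eq_one_iff.1 hcop)
    have hle1 : cz (v * w') ≤ cz v := hz ▸ inf_le_left
    have hle2 : cz (v * w') ≤ cz v' := hz ▸ inf_le_right
    have hc1 : c (v * w') = n1 := by
      rcases h.hall _ hne with h2 | h2 | h2
      · exact h2
      · exact absurd (by rw [← h2, ← hcv]; exact c_dvd hle1) hn23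
      · exfalso
        apply hg
        rw [← cz_eq hle1 (by rw [h2, hcv]), ← cz_eq hle2 (by rw [h2, hcv'])]
    apply le_antisymm
    · apply le_of_prime_power
      intro a ha r k hr hak
      obtain ⟨hav, hav'⟩ := Subgroup.mem_inf.1 ha
      by_cases ha1 : a = 1
      · rw [ha1]; exact F.one_mem
      have hao : orderOf a ∣ r ^ k := orderOf_dvd_of_pow_eq_one hak
      rcases h.hall a ha1 with h2 | h2 | h2
      · have hmin : ∀ g : G, g ≠ 1 → c g ∣ c a → c g = c a := by
          intro g hg1 hg2
          rw [h2] at hg2 ⊢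
          exact hmin1 g hg1 hg2
        have h3 : cz a ≤ cz v ⊓ cz v' := by
          by_cases hrs : r = s
          · have hc3 : ∀ z : G, orderOf z = q → (orderOf a).Coprime (orderOf z) := by
              intro z hz
              rw [hz]
              refine Nat.Coprime.coprime_dvd_left hao (Nat.Coprime.pow_left k ?_)
              rw [hrs]
              exact (Nat.coprime_primes hs hq).2 hsq
            have hwa : w ∈ cz a := by
              apply mem_cz_symm
              rw [← hvw]; exact hav
            have hwa' : w' ∈ cz a := by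
              apply mem_cz_symm
              rw [← hcz']; exact hav'
            rw [hvw, hcz']
            exact le_inf (le_of_min hmin ha1 hwa (hc3 w hw)) (le_of_min hmin ha1 hwa' (hc3 w' how'))
          · have hc3 : ∀ z : G, orderOf z = s → (orderOf a).Coprime (orderOf z) := by
              intro z hz
              rw [hz]
              refine Nat.Coprime.coprime_dvd_left hao (Nat.Coprime.pow_left k ?_)
              exact (Nat.coprime_primes hr hs).2 hrs
            exact le_inf (le_of_min hmin ha1 (mem_cz_symm hav) (hc3 v hv))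
              (le_of_min hmin ha1 (mem_cz_symm hav') (hc3 v' hov'))
        have h4 : cz a = cz v ⊓ cz v' := by
          rw [← hz] at h3 ⊢
          exact cz_eq h3 (by rw [h2, hc1])
        apply hmemF
        rw [h4]
        exact le_inf hFv hFv'
      · exfalso
        apply ha1
        rw [← orderOf_eq_one_iff]
        have h3 : orderOf a ∣ n2 := h2 ▸ dvd_c (self_mem a)
        have h4 : orderOf a ∣ n3 := hcv ▸ dvd_c hav
        exact Nat.eq_one_of_dvd_coprimes h.cop h3 h4
      · exact hmemF a (hFz a h2)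
    · exact le_inf hFv hFv'
  -- G = D H
  have hDH : ∀ g : G, ∃ a ∈ D, ∃ b ∈ cz v, g = a * b := by
    have hcomp : Subgroup.IsComplement' D (cz v) := by
      apply Subgroup.isComplement'_of_coprime
      · rw [h.card, ← h.mul]
        show _ * c v = _
        rw [hcv]
      · rw [h.card]
        show Nat.Coprime _ (c v)
        rw [hcv]
        exact h.cop
    intro g
    obtain ⟨⟨a, b⟩, hab⟩ := hcomp.2 g
    exact ⟨a, a.2, b, b.2, hab.symm⟩
  have hHnil : ¬ Group.IsNilpotent (cz v) := fun h1 =>
    h.ns (S0564.result D (cz v) h.nil h1 hDH)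
  have hHb : cz v ≠ ⊥ := by
    intro h1
    have h2 := self_mem v
    rw [h1, Subgroup.mem_bot] at h2
    exact hv1 h2
  -- the normalizer
  have hnorm : Subgroup.normalizer (cz v : Set G) ≤ cz v := by
    rw [← Subgroup.relIndex_eq_one]
    by_contra hcon
    obtain ⟨r, hr, hrd⟩ := Nat.exists_prime_and_dvd hcon
    have hr2 : r ∣ n2 := by
      rw [← hidx v hcv]
      exact hrd.trans ⟨(Subgroup.normalizer (cz v : Set G)).index,
        (Subgroup.relIndex_mul_index Subgroup.le_normalizer).symm⟩
    haveI : Fact r.Prime := ⟨hr⟩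
    obtain ⟨e0, he0⟩ := exists_prime_orderOf_dvd_card' (G := Subgroup.normalizer (cz v : Set G)) r
      (hrd.trans (Subgroup.relIndex_dvd_card _ _))
    have heo : orderOf (e0 : G) = r := by rw [Subgroup.orderOf_coe, he0]
    apply hHnil
    refine nilp_of_fpf' (cz v) hHb hr heo e0.2 ?_
    intro x hx hxe
    by_contra hx1
    refine h.nocomm (ne_one_of_prime hr heo) hx1 ?_ ?_ (mem_cz.2 hxe)
    · rw [heo]
      exact Nat.Coprime.coprime_dvd_left hr2 h.cop
    · have h4 : orderOf x ∣ n3 := hcv ▸ dvd_c hx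
      exact Nat.Coprime.coprime_dvd_left h4 h.cop.symm
  have hnorm' : ∀ g : G, cz (g * v * g⁻¹) = cz v → g ∈ cz v := by
    intro g hg
    apply hnorm
    apply mem_normalizer_of_map_eq
    rw [← hg]
    conv_lhs => rw [hg]
    exact (conj_centralizer g v).symm
  -- the Frobenius group
  set π := QuotientGroup.mk' F with hπ
  have hFv := hFz v hcv
  have hcomap : ((cz v).map π).comap π = cz v := by
    rw [Subgroup.comap_map_eq, hπ, QuotientGroup.ker_mk', sup_eq_left.2 hFv]
  have hfc : Cfsg.IsFrobeniusComplement ((cz v).map π) := by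
    rw [Frob.isFrobeniusComplement_iff]
    refine ⟨?_, ?_, ?_⟩
    · intro h1
      rw [Subgroup.map_eq_bot_iff, hπ, QuotientGroup.ker_mk'] at h1
      apply hHnil
      have h2 : cz v = F := le_antisymm h1 hFv
      rw [h2]
      exact hFnil
    · intro h1
      rw [h1, Subgroup.comap_top] at hcomap
      apply hn2
      rw [← hidx v hcv, ← hcomap, Subgroup.index_top]
    · intro g k hk hk1 hgk
      obtain ⟨g0, rfl⟩ := QuotientGroup.mk'_surjective F g
      obtain ⟨k0, hk0, rfl⟩ := Subgroup.mem_map.1 hk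
      have hgk0 : g0 * k0 * g0⁻¹ ∈ cz v := by
        rw [← hcomap, Subgroup.mem_comap, map_mul, map_mul, map_inv]
        exact hgk
      have hk0F : k0 ∉ F := by
        intro h1
        exact hk1 ((QuotientGroup.eq_one_iff k0).2 h1)
      have h2 : g0 * k0 * g0⁻¹ ∈ cz (g0 * v * g0⁻¹) := by
        rw [mem_cz] at hk0 ⊢
        calc g0 * k0 * g0⁻¹ * (g0 * v * g0⁻¹) = g0 * (k0 * v) * g0⁻¹ := by group
          _ = g0 * (v * k0) * g0⁻¹ := by rw [hk0]
          _ = _ := by group
      have h3 : g0 ∈ cz v := by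
        apply hnorm'
        by_contra hcon
        have h4 := key g0 hcon
        have h5 : g0 * k0 * g0⁻¹ ∈ F := by
          rw [← h4]
          exact ⟨hgk0, h2⟩
        apply hk0F
        have h6 := hFn.conj_mem _ h5 g0⁻¹
        have h7 : g0⁻¹ * (g0 * k0 * g0⁻¹) * g0⁻¹⁻¹ = k0 := by group
        rwa [h7] at h6
      exact Subgroup.mem_map_of_mem _ h3
  obtain ⟨N, hN, hNn, hNc⟩ := S0035.result _ hfc
  obtain ⟨N', hN', -, hNnil⟩ := S0042.result _ hfc
  have hNN : N' = N := SetLike.coe_injective (hN'.trans hN.symm)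
  rw [hNN] at hNnil
  apply h.ns
  rw [Group.isSolvable_iff_subgroup_quotient F]
  refine ⟨inferInstance, ?_⟩
  rw [Group.isSolvable_iff_subgroup_quotient N]
  refine ⟨inferInstance, ?_⟩
  have hHs := hsol v s hs hv hcv
  have hsur : Function.Surjective (((QuotientGroup.mk' N).comp π).comp (cz v).subtype) := by
    intro z
    obtain ⟨z1, rfl⟩ := QuotientGroup.mk'_surjective N z
    obtain ⟨⟨a, b⟩, hab⟩ := hNc.2 z1
    obtain ⟨b0, hb0, hb1⟩ := Subgroup.mem_map.1 b.2
    refine ⟨⟨b0, hb0⟩, ?_⟩
    show QuotientGroup.mk' N (π b0) = QuotientGroup.mk' N z1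
    rw [hb1, ← hab]
    show QuotientGroup.mk' N b = QuotientGroup.mk' N (a * b)
    rw [map_mul]
    have h3 : QuotientGroup.mk' N (a : G ⧸ F) = 1 := (QuotientGroup.eq_one_iff _).2 a.2
    rw [h3, one_mul]
  exact Group.isSolvable_of_surjective hsur

end Cfsg.Agent.H46CS
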