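import Cfsg.Agent.H46CS.PI2
import Cfsg.Agent.H46CS.Hsol
import Cfsg.Agent.H46CS.U1
import Cfsg.Agent.H46CS.U2
import Cfsg.Agent.H46CS.U3
import Cfsg.Agent.S4037

/-!
# S4137: the case `n1 ∣ n3`, `n1 ∤ n2`
-/

set_option autoImplicit false
set_option linter.style.haveILetI false
set_option linter.unusedSectionVars false
set_option linter.unusedVariables false

namespace Cfsg.Agent.H46CS

open Cfsg.Agent.H35.CR Cfsg.Agent.SC

universe u

variable {G : Type u} [Group G] [Finite G] {n1 n2 n3 : ℕ}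

/-- a prime dividing the Fitting subgroup gives a nontrivial `O_p` -/
theorem pCore_ne_bot {p : ℕ} (hp : p.Prime) (hd : p ∣ Nat.card (Cfsg.fittingSubgroup G)) : Cfsg.pCore p G ≠ ⊥ := by
  haveI : Fact p.Prime := ⟨hp⟩
  intro hb
  have h1 := Cfsg.Agent.Solv.coprime_relIndex_pCore_iSup (G := G) p
  rw [← Cfsg.Agent.Solv.fitting_eq_iSup_pCore, hb, Subgroup.relIndex_bot_left] at h1
  exact hp.one_lt.ne' (Nat.eq_one_of_dvd_coprimes h1 hd dvd_rfl)

theorem solvable_of_compl_two (h : Cfsg.HasNormalPComplement 2 G) : Group.IsSolvable G := by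
  haveI : Fact (Nat.Prime 2) := ⟨Nat.prime_two⟩
  obtain ⟨P, N, hN, hc⟩ := h
  haveI := hN
  have h1 : (P : Subgroup G).index = Nat.card N := hc.index_eq_card
  have h2 : N.index = Nat.card P := hc.symm.index_eq_card
  have h3 : Group.IsSolvable N := by
    apply Cfsg.Agent.FT.solvable_of_odd
    rw [← h1]
    exact Nat.not_even_iff_odd.1 fun he => P.not_dvd_index he.two_dvd
  have h4 : IsPGroup 2 (G ⧸ N) := by
    obtain ⟨k, hk⟩ := IsPGroup.iff_card.1 P.isPGroup'
    apply IsPGroup.of_card (n := k)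
    rw [← Subgroup.index_eq_card, h2, hk]
  have h5 : Group.IsSolvable (G ⧸ N) := by
    have := h4.isNilpotent
    infer_instance
  exact PI.solvable_of_normal h3 h5

theorem U.hs {D : Subgroup G} (h : U G n1 n2 n3 D) :
    ∀ v : G, ∀ s : ℕ, s.Prime → orderOf v = s → c v = n3 → Group.IsSolvable (cz v) := by
  intro v s hs hv hcv
  apply h.toD3.hsol hs hv hcv
  intro hd
  have h1 : s ∣ n3 := by
    rw [← hcv, ← hv]; exact dvd_c_of_mem (self_mem v)
  exact hs.one_lt.ne' (Nat.eq_one_of_dvd_coprimes h.cop hd h1)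

/-- a nontrivial Fitting subgroup finishes situation `U` for odd `n2` -/
theorem U.fin_odd {D : Subgroup G} (h : U G n1 n2 n3 D) (hodd : ¬ 2 ∣ n2) (hF : Cfsg.fittingSubgroup G ≠ ⊥) : False := by
  by_cases hc : (Nat.card (Cfsg.fittingSubgroup G)).Coprime n2
  · exact h.u2 h.hs hF hc
  · obtain ⟨p, hp, hpF, hpn⟩ := Nat.Prime.not_coprime_iff_dvd.1 hc
    exact h.u1 h.hs hp hpn (pCore_ne_bot hp hpF) (Or.inl hodd)

/-- **case c1** -/
theorem case_c1 (h : D3 G n1 n2 n3) (d13 : n1 ∣ n3) {A : Subgroup G}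
    (hA : SelfCent A) (hAn : Nat.card A = n2) (hodd : ¬ 2 ∣ Nat.card A) : False := by
  classical
  haveI : Fact (Nat.Prime 2) := ⟨Nat.prime_two⟩
  obtain ⟨x1, hx1, hc1⟩ := h.ex1
  obtain ⟨x3, hx3, hc3⟩ := h.ex3
  have hcop : (Nat.card A).Coprime n3 := by
    by_contra hcon
    obtain ⟨r, hr, hrA, hr3⟩ := Nat.Prime.not_coprime_iff_dvd.1 hcon
    haveI : Fact r.Prime := ⟨hr⟩
    rw [← hc3] at hr3
    obtain ⟨v, hv⟩ := exists_prime_orderOf_dvd_card' (G := cz x3) r hr3
    have hvo : orderOf (v : G) = r := by rw [Subgroup.orderOf_coe]; exact hv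
    obtain ⟨S, hS⟩ := hA.exists_sylow_le hrA
    obtain ⟨z, P, hz, hvP, hPz, -⟩ := exists_full_comm hr (ne_one_of_prime hr hvo) (k := 1) (by
      rw [pow_one, ← hvo, pow_orderOf_eq_one])
    obtain ⟨g, hg⟩ := MulAction.exists_smul_eq G P S
    have h1 : g * v * g⁻¹ ∈ (S : Subgroup G) := by
      rw [← hg]
      exact Subgroup.smul_mem_pointwise_smul _ (MulAut.conj g) _ hvP
    have h2 := hA _ (hS h1) (conj_ne_one (ne_one_of_prime hr hvo))
    have h3 : g * x3 * g⁻¹ ∈ A := by
      rw [← h2]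
      show _ ∈ cz _
      rw [mem_cz]
      have h4 := mem_cz.1 v.2
      calc g * x3 * g⁻¹ * (g * v * g⁻¹) = g * (x3 * v) * g⁻¹ := by group
        _ = g * (v * x3) * g⁻¹ := by rw [h4]
        _ = _ := by group
    have h4 := hA _ h3 (conj_ne_one hx3)
    have h5 : c (g * x3 * g⁻¹) = n2 := by
      unfold c; rw [← hAn]; exact congrArg (fun H : Subgroup G => Nat.card H) h4
    rw [c_conj, hc3] at h5
    exact h.h23 h5.symm
  have hprod : Nat.card A * n3 = Nat.card G := by
    apply Nat.dvd_antisymm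
    · exact hcop.mul_dvd_of_dvd_of_dvd A.card_subgroup_dvd_card (hc3 ▸ (cz x3).card_subgroup_dvd_card)
    · apply (Nat.dvd_iff_prime_pow_dvd_dvd _ _).2
      intro p k hp hk
      rcases Nat.eq_zero_or_pos k with h0 | h0
      · rw [h0, pow_zero]; exact one_dvd _
      · obtain ⟨z, hz, hzk⟩ := exists_full hp ((dvd_pow_self p h0.ne').trans hk)
        have h1 := hzk k hk
        rcases h.hall z (ne_one_of_prime hp hz) with h | h | h
        · rw [h] at h1; exact (h1.trans d13).mul_left _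
        · rw [h, ← hAn] at h1; exact h1.mul_right _
        · rw [h] at h1; exact h1.mul_left _
  have hnil : Group.IsNilpotent A := by
    letI : CommGroup A := { (inferInstance : Group A) with mul_comm := fun a b => Subtype.ext (hA.comm a.2 b.2) }
    exact CommGroup.isNilpotent
  have hAi : A.index = n3 := Nat.eq_of_mul_eq_mul_left (Nat.card_pos (α := A)) (A.card_mul_index.trans hprod.symm)
  have hcop' : n2.Coprime A.index := by rw [hAi, ← hAn]; exact hcop
  have hn3 : 0 < n3 := hc3 ▸ c_pos x3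
  have hind3 : ∀ x : G, c x = n3 → (cz x).index = n2 := by
    intro x hx
    apply Nat.eq_of_mul_eq_mul_left hn3
    rw [← hx, show c x * (cz x).index = Nat.card G from (cz x).card_mul_index, hx, ← hprod, hAn, mul_comm]
  have hh3 : ∀ x : G, c x = n3 → ∀ r : ℕ, r.Prime → r ∣ (cz x).index → r ∣ n2 := by
    intro x hx r hr hd
    rwa [hind3 x hx] at hd
  have hhz : ∀ p : ℕ, p.Prime → p ∣ n2 → ∃ z : G, orderOf z = p ∧ c z = n2 := by
    intro p hp hd
    haveI : Fact p.Prime := ⟨hp⟩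
    obtain ⟨z, hz⟩ := exists_prime_orderOf_dvd_card' (G := A) p (by rw [hAn]; exact hd)
    have hzo : orderOf (z : G) = p := by rw [Subgroup.orderOf_coe]; exact hz
    refine ⟨z, hzo, ?_⟩
    unfold c
    rw [← hAn]
    exact congrArg (fun H : Subgroup G => Nat.card H) (hA _ z.2 (ne_one_of_prime hp hzo))
  obtain ⟨s, q, v, w, hs, hq, hsq, hs2, hq2, hv, hw, hvw, hcv, -⟩ := exists_vw' h d13 A hnil hAn hcop' hh3 hhz
  have hU : U G n1 n2 n3 A :=
    { h with
      d13 := d13
      nil := hnil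
      card := hAn
      mul := by rw [← hAn]; exact hprod
      cop := by rw [← hAn]; exact hcop
      vw := ⟨s, q, v, w, hs, hq, hsq, hv, hw, hvw, hcv⟩ }
  have hodd' : ¬ 2 ∣ n2 := by rwa [hAn] at hodd
  by_cases hF : Cfsg.fittingSubgroup G = ⊥
  · have h2G : 2 ∣ Nat.card G := Cfsg.Agent.FT.even_of_not_solvable h.ns
    refine hU.u3 hA hodd' ?_ hF
    have hn1 : 0 < n1 := hc1 ▸ c_pos x1
    have hidx : Nat.card G / n1 = (cz x1).index := by
      have h5 : n1 * (cz x1).index = Nat.card G := by rw [← hc1]; exact (cz x1).card_mul_index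
      rw [← h5, Nat.mul_div_cancel_left _ hn1]
    rw [hidx]
    by_contra hnd
    exact h.ns (solvable_of_compl_two (bad_compl h d13 A hnil hAn hcop' hh3 hhz 2 Nat.prime_two h2G hodd'
      ⟨x1, hc1, hx1, hnd⟩))
  · exact hU.fin_odd hodd' hF

end Cfsg.Agent.H46CS
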