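import Cfsg.Agent.H46CS.Cc

/-!
# S4137: the case where `n2` is a prime power
-/

set_option autoImplicit false
set_option linter.style.haveILetI false
set_option linter.unusedSectionVars false
set_option linter.unusedVariables false

namespace Cfsg.Agent.H46CS

open Cfsg.Agent.H35.CR Cfsg.Agent.SC

universe u

variable {G : Type u} [Group G] [Finite G] {n1 n2 n3 : ℕ}

theorem fitting_ne_bot_of {N : Subgroup G} [hN : N.Normal] (hs : Group.IsSolvable N) (h1 : N ≠ ⊥) :
    Cfsg.fittingSubgroup G ≠ ⊥ := by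
  intro hb
  have h2 := Cfsg.Agent.Solv.map_subtype_fitting_le N
  rw [hb, le_bot_iff, Subgroup.map_eq_bot_iff_of_injective _ N.subtype_injective] at h2
  haveI := hs
  have h3 := Cfsg.Agent.Solv.centralizer_fitting_le (G := N)
  rw [h2] at h3
  apply h1
  rw [eq_bot_iff]
  intro x hx
  have h4 : (⟨x, hx⟩ : N) ∈ (⊥ : Subgroup N) := by
    apply h3
    rw [Subgroup.mem_centralizer_iff]
    intro y hy
    rw [SetLike.mem_coe, Subgroup.mem_bot] at hy
    rw [hy, one_mul, mul_one]
  rw [Subgroup.mem_bot] at h4 ⊢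
  exact congrArg Subtype.val h4

theorem case_c2 (h : D3 G n1 n2 n3) (d13 : n1 ∣ n3) (h21 : ¬ n2 ∣ n1)
    {p k : ℕ} (hp : p.Prime) (hn2 : n2 = p ^ k) : False := by
  classical
  haveI : Fact p.Prime := ⟨hp⟩
  obtain ⟨x1, hx1, hc1⟩ := h.ex1
  obtain ⟨x2, hx2, hc2⟩ := h.ex2
  obtain ⟨x3, hx3, hc3⟩ := h.ex3
  have h31 : ¬ n3 ∣ n1 := fun hd => h.h13 (Nat.dvd_antisymm d13 hd)
  have hk0 : k ≠ 0 := by
    rintro rfl
    have h2 : orderOf x2 ∣ 1 := by
      rw [← pow_zero p, ← hn2, ← hc2]
      exact dvd_c_of_mem (self_mem x2)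
    exact hx2 (orderOf_eq_one_iff.1 (Nat.dvd_one.1 h2))
  have hpn2 : p ∣ n2 := by rw [hn2]; exact dvd_pow_self p hk0
  have hn2G : n2 ∣ Nat.card G := hc2 ▸ (cz x2).card_subgroup_dvd_card
  have hn3G : n3 ∣ Nat.card G := hc3 ▸ (cz x3).card_subgroup_dvd_card
  have hpG : p ∣ Nat.card G := hpn2.trans hn2G
  -- `n3` has full `r`-part for `r ≠ p`
  have hA : ∀ r : ℕ, r.Prime → r ≠ p → ∀ j : ℕ, r ^ j ∣ Nat.card G → r ^ j ∣ n3 := by
    intro r hr hrp j hj
    rcases Nat.eq_zero_or_pos j with h0 | h0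
    · rw [h0, pow_zero]; exact one_dvd _
    · have hrG : r ∣ Nat.card G := (dvd_pow_self r h0.ne').trans hj
      obtain ⟨z, hz, hzk⟩ := exists_full hr hrG
      have h1 := hzk j hj
      rcases h.hall z (ne_one_of_prime hr hz) with h2 | h2 | h2
      · rw [h2] at h1; exact h1.trans d13
      · exfalso
        have h3 := (dvd_pow_self r h0.ne').trans h1
        rw [h2, hn2] at h3
        exact hrp ((Nat.prime_dvd_prime_iff_eq hr hp).1 (hr.dvd_of_dvd_pow h3))
      · rw [h2] at h1; exact h1
  -- full `p`-elements have type 2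
  have hB : ∀ z : G, z ≠ 1 → (∀ j : ℕ, p ^ j ∣ Nat.card G → p ^ j ∣ c z) → c z = n2 := by
    intro z hz hf
    by_contra hne
    have h1 : ∀ j : ℕ, p ^ j ∣ Nat.card G → p ^ j ∣ n3 := by
      intro j hj
      have h2 := hf j hj
      rcases h.hall z hz with h3 | h3 | h3
      · rw [h3] at h2; exact h2.trans d13
      · exact absurd h3 hne
      · rw [h3] at h2; exact h2
    have h2 : c x3 = Nat.card G := by
      apply Nat.dvd_antisymm (Subgroup.card_subgroup_dvd_card _)
      apply (Nat.dvd_iff_prime_pow_dvd_dvd _ _).2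
      intro r j hr hj
      show r ^ j ∣ c x3
      rw [hc3]
      by_cases hrp : r = p
      · subst hrp; exact h1 j hj
      · exact hA r hr hrp j hj
    have h3 : cz x3 = ⊤ := Subgroup.eq_top_of_card_eq _ h2
    apply hx3
    have h4 : x3 ∈ Subgroup.center G := by
      rw [Subgroup.mem_center_iff]
      intro g
      have : g ∈ cz x3 := by rw [h3]; trivial
      exact mem_cz.1 this
    rw [h.hZ] at h4
    exact Subgroup.mem_bot.1 h4
  -- the Sylow subgroup
  obtain ⟨z0, hz0, hz0f⟩ := exists_full hp hpG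
  have hz0c := hB z0 (ne_one_of_prime hp hz0) hz0f
  let P : Sylow p G := default
  have hPcard : Nat.card P = n2 := by
    apply Nat.dvd_antisymm
    · obtain ⟨j, hj⟩ := IsPGroup.iff_card.1 P.isPGroup'
      have h1 : p ^ j ∣ Nat.card G := by rw [← hj]; exact P.card_subgroup_dvd_card
      have h2 := hz0f j h1
      rw [hz0c] at h2
      rw [hj]; exact h2
    · rw [hn2]
      exact P.pow_dvd_card_of_pow_dvd_card (by rw [← hn2]; exact hn2G)
  have hnil : Group.IsNilpotent (P : Subgroup G) := P.isPGroup'.isNilpotent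
  have hcop : n2.Coprime (P : Subgroup G).index := by
    rw [← hPcard]; exact P.card_coprime_index
  have hh3 : ∀ x : G, c x = n3 → ∀ r : ℕ, r.Prime → r ∣ (cz x).index → r ∣ n2 := by
    intro x hx r hr hd
    by_cases hrp : r = p
    · rw [hrp]; exact hpn2
    · exfalso
      exact not_dvd_index hr (fun j hj => by rw [hx]; exact hA r hr hrp j hj) hd
  have hhz : ∀ r : ℕ, r.Prime → r ∣ n2 → ∃ z : G, orderOf z = r ∧ c z = n2 := by
    intro r hr hd
    rw [hn2] at hd
    have hrp : r = p := (Nat.prime_dvd_prime_iff_eq hr hp).1 (hr.dvd_of_dvd_pow hd)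
    subst hrp
    exact ⟨z0, hz0, hz0c⟩
  obtain ⟨s, q, v, w, hs, hq, hsq, hs2, hq2, hv, hw, hvw, hcv, hsG, y1, hy1, hsy1⟩ :=
    exists_vw' h d13 P hnil hPcard hcop hh3 hhz
  have hsp : s ≠ p := by rintro rfl; exact hs2 hpn2
  have hv1 := ne_one_of_prime hs hv
  -- `p` does not divide `n3`
  have hp3 : ¬ p ∣ n3 := by
    intro hd
    rw [← hcv] at hd
    obtain ⟨u0, hu0⟩ := exists_prime_orderOf_dvd_card' (G := cz v) p hd
    set u : G := (u0 : G) with hudef
    have huv : u ∈ cz v := u0.2
    have hu : orderOf u = p := by rw [hudef, Subgroup.orderOf_coe]; exact hu0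
    have hu1 := ne_one_of_prime hp hu
    obtain ⟨z, P', hz, huP, hPz, hzP⟩ := exists_full_comm hp hu1 (k := 1) (by
      rw [pow_one, ← hu, pow_orderOf_eq_one])
    have hz1 := ne_one_of_prime hp hz
    have hzc : c z = n2 := by
      apply hB z hz1
      intro j hj
      exact (P'.pow_dvd_card_of_pow_dvd_card hj).trans (Subgroup.card_dvd_of_le hPz)
    have hzu : z ∈ cz u := mem_cz_symm (hPz huP)
    -- an element of order `s` does not commute with `z`
    have key : ∀ v' : G, orderOf v' = s → z ∉ cz v' := by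
      intro v' hv' hzv
      apply hs2
      rw [← hzc, ← hv']
      exact dvd_c_of_mem (mem_cz_symm hzv)
    rcases h.hall u hu1 with h1 | h1 | h1
    · -- type 1
      have hmin : ∀ g : G, g ≠ 1 → c g ∣ c u → c g = c u := by
        intro g hg hd
        rw [h1] at hd ⊢
        rcases h.hall g hg with h2 | h2 | h2
        · exact h2
        · exact absurd (h2 ▸ hd) h21
        · exact absurd (h2 ▸ hd) h31
      have h2 := le_of_min hmin hu1 (mem_cz_symm huv) (by
        rw [hu, hv]; exact (Nat.coprime_primes hp hs).2 (Ne.symm hsp))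
      exact key v hv (h2 hzu)
    · -- type 2
      apply hs2
      rw [← h1, ← hv]
      exact dvd_c_of_mem (mem_cz_symm huv)
    · -- type 3
      have hfu : ∀ j : ℕ, s ^ j ∣ Nat.card G → s ^ j ∣ Nat.card (cz u) := by
        intro j hj
        have h2 := hA s hs hsp j hj
        rw [← h1] at h2
        exact h2
      have hsu : s ∣ Nat.card (cz u) := by
        have := hfu 1 (by rwa [pow_one])
        rwa [pow_one] at this
      obtain ⟨v', hv'o, hv'f⟩ := exists_full (G := cz u) hs hsu
      have hvo : orderOf (v' : G) = s := by rw [Subgroup.orderOf_coe]; exact hv'o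
      have hco : (orderOf u).Coprime (orderOf (v' : G)) := by
        rw [hu, hvo]; exact (Nat.coprime_primes hp hs).2 (Ne.symm hsp)
      have hcomm : u * (v' : G) = v' * u := (mem_cz.1 v'.2).symm
      have hinf := cz_mul_inf v'.2 hco
      have hcard : c v' = c (u * (v' : G)) := by
        rw [c, card_cz_sub, c, hinf]
      have hf1 : ∀ j : ℕ, s ^ j ∣ Nat.card G → s ^ j ∣ c (u * (v' : G)) := by
        intro j hj
        rw [← hcard]
        exact hv'f j (hfu j hj)
      have hf2 : ∀ j : ℕ, s ^ j ∣ Nat.card G → s ^ j ∣ c (v' : G) := by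
        intro j hj
        exact (hf1 j hj).trans (c_dvd (cz_mul_le' hcomm hco))
      have huv1 : u * (v' : G) ≠ 1 := by
        intro h2
        have h3 : (v' : G) = u⁻¹ := (inv_eq_of_mul_eq_one_right h2).symm
        rw [h3, orderOf_inv, Nat.coprime_self] at hco
        exact hu1 (orderOf_eq_one_iff.1 hco)
      have hc1' : c (u * (v' : G)) = n3 := PI.type3 h hs hsG hs2 hy1 hsy1 huv1 hf1
      have hc2' : c (v' : G) = n3 := PI.type3 h hs hsG hs2 hy1 hsy1 (ne_one_of_prime hs hvo) hf2
      have he1 := cz_eq (cz_mul_le hcomm hco) (hc1'.trans h1.symm)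
      have he2 := cz_eq (cz_mul_le' hcomm hco) (hc1'.trans hc2'.symm)
      apply key v' hvo
      rw [← he2, he1]
      exact hzu
  -- situation `U`
  have hcop3 : n2.Coprime n3 := by
    rw [hn2]; exact Nat.Coprime.pow_left k ((Nat.Prime.coprime_iff_not_dvd hp).2 hp3)
  have hmul : n2 * n3 = Nat.card G := by
    apply Nat.dvd_antisymm
    · exact hcop3.mul_dvd_of_dvd_of_dvd hn2G hn3G
    · apply (Nat.dvd_iff_prime_pow_dvd_dvd _ _).2
      intro r j hr hj
      by_cases hrp : r = p
      · subst hrp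
        have h1 := hz0f j hj
        rw [hz0c] at h1
        exact h1.mul_right _
      · exact (hA r hr hrp j hj).mul_left _
  have hU : U G n1 n2 n3 (P : Subgroup G) :=
    { h with
      d13 := d13
      nil := hnil
      card := hPcard
      mul := hmul
      cop := hcop3
      vw := ⟨s, q, v, w, hs, hq, hsq, hv, hw, hvw, hcv⟩ }
  -- Kazarin
  have hn3 : 0 < n3 := hc3 ▸ c_pos x3
  have hidx : (cz v).index = p ^ k := by
    rw [← hn2]
    apply Nat.eq_of_mul_eq_mul_left hn3
    rw [← hcv, show c v * (cz v).index = Nat.card G from (cz v).card_mul_index, hcv, ← hmul, mul_comm]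
  have hNs : Group.IsSolvable (Subgroup.normalClosure ({v} : Set G)) := by
    apply Cfsg.Agent.S4037.result v hp k
    rw [Cfsg.Agent.H67.ncard_carrier_eq_index]
    exact hidx
  have hvN : v ∈ Subgroup.normalClosure ({v} : Set G) := Subgroup.subset_normalClosure rfl
  have hN1 : Subgroup.normalClosure ({v} : Set G) ≠ ⊥ := by
    intro hb
    rw [hb, Subgroup.mem_bot] at hvN
    exact hv1 hvN
  have hF := fitting_ne_bot_of hNs hN1
  by_cases hc : (Nat.card (Cfsg.fittingSubgroup G)).Coprime n2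
  · exact hU.u2 hU.hs hF hc
  · obtain ⟨r, hr, hrF, hrn⟩ := Nat.Prime.not_coprime_iff_dvd.1 hc
    refine hU.u1 hU.hs hr hrn (pCore_ne_bot hr hrF) ?_
    by_cases hp2 : p = 2
    · right
      subst hp2
      exact ⟨⟨k, hn2⟩, _, Subgroup.normalClosure_normal, hNs, v, hvN, s, hs, hsp, hv⟩
    · left
      intro hd
      rw [hn2] at hd
      exact hp2 ((Nat.prime_dvd_prime_iff_eq Nat.prime_two hp).1 (Nat.prime_two.dvd_of_dvd_pow hd)).symm

end Cfsg.Agent.H46CS
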