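import Cfsg.Agent.H46CS.Cp
import Cfsg.Agent.H46CS.A1
import Cfsg.Agent.H46CS.A2
import Cfsg.Agent.H46CS.A3
import Cfsg.Agent.H46CS.Inv
import Cfsg.Agent.S3922

/-!
# S4137: assembly
-/

set_option autoImplicit false
set_option linter.style.haveILetI false
set_option linter.unusedSectionVars false
set_option linter.unusedVariables false

namespace Cfsg.Agent.H46CS

open Cfsg.Agent.H35.CR Cfsg.Agent.SC

universe u

variable {G : Type u} [Group G] [Finite G] {n1 n2 n3 : ℕ}

theorem D3.case_a' (h : D3 G n1 n2 n3) (d12 : n1 ∣ n2) (d13 : n1 ∣ n3) : False :=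
  case_a_of h d12 d13 (fun x y h1 h2 => dich h.hZ h1 h2)
    (fun r t hr ht hrt v y hv hy hcv hcy => star h d12 d13 hr ht hrt hv hy hcv hcy)

theorem D3.swap (h : D3 G n1 n2 n3) : D3 G n2 n1 n3 where
  ns := h.ns
  hZ := h.hZ
  hall := fun g hg => by
    rcases h.hall g hg with h1 | h1 | h1
    · exact Or.inr (Or.inl h1)
    · exact Or.inl h1
    · exact Or.inr (Or.inr h1)
  h12 := h.h12.symm
  h13 := h.h23
  h23 := h.h13
  ex1 := h.ex2
  ex2 := h.ex1
  ex3 := h.ex3

/-- the case of a divisibility -/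
theorem D3.key (h : D3 G n1 n2 n3) (d13 : n1 ∣ n3) : ∀ t : G, orderOf t = 2 → SelfCent (cz t) := by
  classical
  obtain ⟨x2, hx2, hc2⟩ := h.ex2
  obtain ⟨x3, hx3, hc3⟩ := h.ex3
  have h32 : ¬ n3 ∣ n2 := by
    intro hd
    apply h.not_full hx2
    intro g hg
    rw [hc2]
    rcases h.hall g hg with h1 | h1 | h1
    · rw [h1]; exact d13.trans hd
    · rw [h1]
    · rw [h1]; exact hd
  have h23 : ¬ n2 ∣ n3 := by
    intro hd
    apply h.not_full hx3
    intro g hg
    rw [hc3]
    rcases h.hall g hg with h1 | h1 | h1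
    · rw [h1]; exact d13
    · rw [h1]; exact hd
    · rw [h1]
  have h21 : ¬ n2 ∣ n1 := fun hd => h23 (hd.trans d13)
  have h31 : ¬ n3 ∣ n1 := fun hd => h.h13 (Nat.dvd_antisymm d13 hd)
  by_cases h12 : n1 ∣ n2
  · exact (h.case_a' h12 d13).elim
  have hmin2 : ∀ g : G, g ≠ 1 → c g ∣ n2 → c g = n2 := by
    intro g hg hd
    rcases h.hall g hg with h1 | h1 | h1
    · exact absurd (h1 ▸ hd) h12
    · exact h1
    · exact absurd (h1 ▸ hd) h32
  have hmax2 : ∀ g : G, g ≠ 1 → n2 ∣ c g → c g = n2 := by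
    intro g hg hd
    rcases h.hall g hg with h1 | h1 | h1
    · exact absurd (h1 ▸ hd) h21
    · exact h1
    · exact absurd (h1 ▸ hd) h23
  obtain ⟨p, k, hp, hpk⟩ := exists_prime_power hx2
  set x : G := x2 ^ k with hx
  have hx1 := ne_one_of_prime hp hpk
  have hcx : c x = n2 := hmax2 x hx1 (hc2 ▸ c_dvd (cz_le_pow x2 k))
  by_cases hq : ∃ q : ℕ, q.Prime ∧ q ≠ p ∧ q ∣ n2
  · obtain ⟨q, hq, hqp, hqn⟩ := hq
    haveI : Fact q.Prime := ⟨hq⟩
    obtain ⟨w, hw⟩ := exists_prime_orderOf_dvd_card' (G := cz x) q (by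
      rw [← hcx] at hqn; exact hqn)
    have hA : SelfCent (cz x) := selfCent_of hp hq (Ne.symm hqp) hpk (w := (w : G))
      (by rw [Subgroup.orderOf_coe]; exact hw) w.2 (by rw [hcx]; exact hmin2) (by rw [hcx]; exact hmax2)
    by_cases h2A : 2 ∣ Nat.card (cz x)
    · intro t ht
      haveI : Fact (Nat.Prime 2) := ⟨Nat.prime_two⟩
      have ht1 := ne_one_of_prime Nat.prime_two ht
      obtain ⟨S, hS⟩ := hA.exists_sylow_le h2A
      obtain ⟨z, P, hz, htP, hPz, -⟩ := exists_full_comm Nat.prime_two ht1 (k := 1) (by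
        rw [pow_one, ← ht, pow_orderOf_eq_one])
      obtain ⟨g, hg⟩ := MulAction.exists_smul_eq G P S
      have h1 : g * t * g⁻¹ ∈ (S : Subgroup G) := by
        rw [← hg]
        exact Subgroup.smul_mem_pointwise_smul _ (MulAut.conj g) _ htP
      have h2 := hA _ (hS h1) (conj_ne_one ht1)
      have h3 : cz t = (cz x).map (MulAut.conj g⁻¹).toMonoidHom := by
        rw [← h2]
        show _ = (Subgroup.centralizer ({g * t * g⁻¹} : Set G)).map (MulAut.conj g⁻¹).toMonoidHom
        rw [← conj_centralizer]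
        congr 2
        group
      rw [h3]
      exact hA.map g⁻¹
    · exact (case_c1 h d13 hA hcx h2A).elim
  · exfalso
    push Not at hq
    have hn20 : n2 ≠ 0 := by rw [← hcx]; exact (c_pos x).ne'
    have h1 : n2 = p ^ n2.primeFactorsList.length := by
      apply Nat.eq_prime_pow_of_unique_prime_dvd hn20
      intro q hq' hqn
      by_contra hqp
      exact hq q hq' hqp hqn
    exact case_c2 h d13 h21 hp h1

theorem D3.inv_self (h : D3 G n1 n2 n3) : ∀ t : G, orderOf t = 2 → SelfCent (cz t) := by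
  by_cases hanti : ∀ g h : G, g ≠ 1 → h ≠ 1 → c g ∣ c h → c g = c h
  · exact anti hanti
  · push Not at hanti
    obtain ⟨g, g', hg, hg', hdvd, hne⟩ := hanti
    rcases h.hall g hg with h1 | h1 | h1 <;> rcases h.hall g' hg' with h2 | h2 | h2 <;> rw [h1, h2] at hdvd hne
    · exact absurd rfl hne
    · exact h.symm.key hdvd
    · exact h.key hdvd
    · exact h.swap.symm.key hdvd
    · exact absurd rfl hne
    · exact h.swap.key hdvd
    · exact h.symm.swap.symm.key hdvd
    · exact h.symm.swap.key hdvd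
    · exact absurd rfl hne

theorem main (hZ : Subgroup.center G = ⊥)
    (h : Nat.card {n : ℕ | 1 < n ∧ ∃ x : G, (Subgroup.centralizer ({x} : Set G)).index = n} ≤ 3) :
    Group.IsSolvable G ∨
      ∃ a : ℕ, 0 < a ∧ Nonempty (G ≃* Matrix.ProjectiveSpecialLinearGroup (Fin 2) (GaloisField 2 a)) := by
  classical
  by_cases hs : Group.IsSolvable G
  · exact Or.inl hs
  right
  set S : Set ℕ := {n : ℕ | 1 < n ∧ ∃ x : G, (Subgroup.centralizer ({x} : Set G)).index = n} with hS
  have hSf : S.Finite := by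
    apply Set.Finite.subset (Nat.divisors (Nat.card G)).finite_toSet
    rintro n ⟨_, x, rfl⟩
    rw [Finset.mem_coe, Nat.mem_divisors]
    exact ⟨(cz x).index_dvd_card, Nat.card_pos.ne'⟩
  have hone : ∀ x : G, (cz x).index = 1 → x = 1 := by
    intro x hx
    rw [Subgroup.index_eq_one] at hx
    have h4 : x ∈ Subgroup.center G := by
      rw [Subgroup.mem_center_iff]
      intro g
      have : g ∈ cz x := by rw [hx]; trivial
      exact mem_cz.1 this
    rw [hZ] at h4
    exact Subgroup.mem_bot.1 h4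
  have hmem : ∀ x : G, (cz x).index = 1 ∨ (cz x).index ∈ S := by
    intro x
    by_cases h1 : (cz x).index = 1
    · exact Or.inl h1
    · right
      have h0 : (cz x).index ≠ 0 := Subgroup.index_ne_zero_of_finite
      exact ⟨by omega, x, rfl⟩
  have hcard : S.ncard ≤ 3 := h
  have h4 : S.ncard = 0 ∨ S.ncard = 1 ∨ S.ncard = 2 ∨ S.ncard = 3 := by omega
  rcases h4 with h0 | h1 | h2 | h3
  · exfalso
    rw [Set.ncard_eq_zero hSf] at h0
    apply hs
    apply solvable_of_reg (s := 2) (b := 1) Nat.prime_two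
    intro x _
    rcases hmem x with hx | hx
    · exact Or.inl hx
    · rw [h0] at hx; exact absurd hx (Set.notMem_empty _)
  · exfalso
    obtain ⟨a, ha⟩ := Set.ncard_eq_one.1 h1
    apply hs
    apply solvable_of_reg (s := 2) (b := a) Nat.prime_two
    intro x _
    rcases hmem x with hx | hx
    · exact Or.inl hx
    · rw [ha] at hx; exact Or.inr hx
  · exfalso
    obtain ⟨a, b, hab, hSab⟩ := Set.ncard_eq_two.1 h2
    apply hs
    have key : ∀ a b : ℕ, S = {a, b} → b < a → Group.IsSolvable G := by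
      intro a b hSab hlt
      have haS : a ∈ S := by rw [hSab]; exact Or.inl rfl
      have hbS : b ∈ S := by rw [hSab]; exact Or.inr rfl
      refine Cfsg.Agent.S3922.result a b hlt hbS.1 ?_ haS.2 hbS.2
      intro x
      rcases hmem x with hx | hx
      · exact Or.inl hx
      · rw [hSab] at hx
        rcases hx with hx | hx
        · exact Or.inr (Or.inr hx)
        · exact Or.inr (Or.inl hx)
    rcases Nat.lt_or_gt_of_ne hab with hlt | hlt
    · exact key b a (by rw [hSab, Set.pair_comm]) hlt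
    · exact key a b hSab hlt
  · obtain ⟨a, b, d, hab, had, hbd, hSabd⟩ := Set.ncard_eq_three.1 h3
    have haS : a ∈ S := by rw [hSabd]; exact Or.inl rfl
    have hbS : b ∈ S := by rw [hSabd]; exact Or.inr (Or.inl rfl)
    have hdS : d ∈ S := by rw [hSabd]; exact Or.inr (Or.inr rfl)
    obtain ⟨ha1, xa, hxa⟩ := haS
    obtain ⟨hb1, xb, hxb⟩ := hbS
    obtain ⟨hd1, xd, hxd⟩ := hdS
    have hne : ∀ x : G, 1 < (cz x).index → x ≠ 1 := by
      rintro x hx rfl
      have : cz (1 : G) = ⊤ := by
        rw [eq_top_iff]; intro g _; rw [mem_cz, mul_one, one_mul]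
      rw [this, Subgroup.index_top] at hx
      exact lt_irrefl _ hx
    have hceq : ∀ x y : G, (cz x).index = (cz y).index → c x = c y := by
      intro x y hxy
      have e1 := (cz x).card_mul_index
      have e2 := (cz y).card_mul_index
      rw [hxy] at e1
      exact Nat.eq_of_mul_eq_mul_right (Nat.pos_of_ne_zero Subgroup.index_ne_zero_of_finite) (e1.trans e2.symm)
    have hD : D3 G (c xa) (c xb) (c xd) :=
      { ns := hs
        hZ := hZ
        hall := by
          intro g hg
          rcases hmem g with hx | hx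
          · exact absurd (hone g hx) hg
          · rw [hSabd] at hx
            rcases hx with hx | hx | hx
            · exact Or.inl (hceq _ _ (hx.trans hxa.symm))
            · exact Or.inr (Or.inl (hceq _ _ (hx.trans hxb.symm)))
            · exact Or.inr (Or.inr (hceq _ _ (hx.trans hxd.symm)))
        h12 := fun he => hab (by rw [← hxa, ← hxb]; exact index_eq he)
        h13 := fun he => had (by rw [← hxa, ← hxd]; exact index_eq he)
        h23 := fun he => hbd (by rw [← hxb, ← hxd]; exact index_eq he)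
        ex1 := ⟨xa, hne xa (by rw [show (cz xa).index = a from hxa]; exact ha1), rfl⟩
        ex2 := ⟨xb, hne xb (by rw [show (cz xb).index = b from hxb]; exact hb1), rfl⟩
        ex3 := ⟨xd, hne xd (by rw [show (cz xd).index = d from hxd]; exact hd1), rfl⟩ }
    exact inv hs hD.inv_self

end Cfsg.Agent.H46CS
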