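import Cfsg.Agent.H46CS.Def
import Cfsg.Agent.S4160
import Cfsg.Agent.S0564
import Cfsg.Agent.S0033
import Cfsg.Agent.H69.Basic
import Cfsg.Agent.H35.CRc

/-!
# S4137, piece PI: existence of `v, w` of different prime orders with the same centralizer, of order `n3`.
-/

set_option autoImplicit false
set_option linter.style.haveILetI false
set_option linter.unusedSectionVars false
set_option linter.unusedVariables false

namespace Cfsg.Agent.H46CS

open Cfsg.Agent.H35.CR

universe u

variable {G : Type u} [Group G] [Finite G]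

/-- **Thompson**: an element of prime order with no fixed points on a normal subgroup. -/
theorem PI.fpf_nilpotent {N : Subgroup G} [N.Normal] {z : G} {p : ℕ} (hp : p.Prime) (hz : orderOf z = p)
    (h : ∀ x ∈ N, x * z = z * x → x = 1) : Group.IsNilpotent N := by
  rcases subsingleton_or_nontrivial N with hN | hN
  · infer_instance
  set φ : MulAut N := MulAut.conjNormal z with hφ
  have hφ1 : ∀ g : N, φ g = g → g = 1 := by
    intro g hg
    have h1 := congrArg Subtype.val hg
    rw [hφ, MulAut.conjNormal_apply, mul_inv_eq_iff_eq_mul] at h1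
    exact Subtype.ext (h g g.2 h1.symm)
  have hφo : orderOf φ = p := by
    haveI : Fact p.Prime := ⟨hp⟩
    apply orderOf_eq_prime
    · rw [hφ, ← map_pow]
      have : z ^ p = 1 := by rw [← hz]; exact pow_orderOf_eq_one z
      rw [this, map_one]
    · intro h
      obtain ⟨g, hg⟩ := exists_ne (1 : N)
      exact hg (hφ1 g (by rw [h]; rfl))
  exact Cfsg.Agent.S0033.result (G := N) φ (fun g hg => hφ1 g hg) p hp hφo

/-- intersections of normal `p`-complements -/
theorem PI.exists_normal_of_compl (S : Finset ℕ) (h : ∀ p ∈ S, p.Prime ∧ Cfsg.HasNormalPComplement p G) :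
    ∃ N : Subgroup G, ∃ _ : N.Normal, Group.IsSolvable (G ⧸ N) ∧ ∀ p ∈ S, ¬ p ∣ Nat.card N := by
  classical
  induction S using Finset.induction_on with
  | empty =>
    refine ⟨⊤, inferInstance, ?_, fun p hp => absurd hp (Finset.notMem_empty p)⟩
    haveI : Subsingleton (G ⧸ (⊤ : Subgroup G)) := QuotientGroup.subsingleton_quotient_top
    infer_instance
  | insert p S hpS ih =>
    obtain ⟨N, hN, hs, hd⟩ := ih (fun q hq => h q (Finset.mem_insert_of_mem hq))
    obtain ⟨hp, P, K, hK, hc⟩ := h p (Finset.mem_insert_self p S)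
    haveI : Fact p.Prime := ⟨hp⟩
    have hKi : K.index = Nat.card P := hc.symm.index_eq_card
    have hPi : (P : Subgroup G).index = Nat.card K := hc.index_eq_card
    have hpK : ¬ p ∣ Nat.card K := by
      rw [← hPi]; exact P.not_dvd_index
    have hsK : Group.IsSolvable (G ⧸ K) := by
      have h1 : IsPGroup p (G ⧸ K) := by
        obtain ⟨n, hn⟩ := P.isPGroup'.exists_card_eq
        exact IsPGroup.of_card (n := n) (by rw [← hn]; exact hKi)
      haveI : Group.IsNilpotent (G ⧸ K) := h1.isNilpotent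
      infer_instance
    refine ⟨N ⊓ K, inferInstance, ?_, ?_⟩
    · have hinj : Function.Injective (QuotientGroup.lift (N ⊓ K)
          ((QuotientGroup.mk' N).prod (QuotientGroup.mk' K)) (by
            intro x hx
            show (_, _) = ((1 : G ⧸ N), (1 : G ⧸ K))
            rw [Prod.mk.injEq]
            exact ⟨(QuotientGroup.eq_one_iff x).2 hx.1, (QuotientGroup.eq_one_iff x).2 hx.2⟩)) := by
        rw [injective_iff_map_eq_one]
        intro a
        induction a using QuotientGroup.induction_on with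
        | H a =>
          intro ha
          have ha' : ((a : G ⧸ N), (a : G ⧸ K)) = (1, 1) := ha
          rw [Prod.mk.injEq] at ha'
          exact (QuotientGroup.eq_one_iff a).2 ⟨(QuotientGroup.eq_one_iff a).1 ha'.1, (QuotientGroup.eq_one_iff a).1 ha'.2⟩
      haveI := hs
      haveI := hsK
      exact Group.isSolvable_of_isSolvable_injective hinj
    · intro q hq hqd
      rcases Finset.mem_insert.1 hq with h1 | h1
      · subst h1
        exact hpK (hqd.trans (Subgroup.card_dvd_of_le inf_le_right))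
      · exact hd q h1 (hqd.trans (Subgroup.card_dvd_of_le inf_le_left))

theorem PI.solvable_of_normal {N : Subgroup G} [N.Normal] (h1 : Group.IsSolvable N) (h2 : Group.IsSolvable (G ⧸ N)) :
    Group.IsSolvable G := (Group.isSolvable_iff_subgroup_quotient N).2 ⟨h1, h2⟩

theorem PI.relIndex_dvd_index (H K : Subgroup G) [K.Normal] : H.relIndex K ∣ H.index := by
  obtain ⟨c, hc⟩ := Subgroup.relIndex_dvd_index_of_normal K H
  have h1 : H.relIndex K * K.index = (H ⊓ K).index := by
    rw [← Subgroup.inf_relIndex_right]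
    exact Subgroup.relIndex_mul_index inf_le_right
  have h2 : K.relIndex H * H.index = (H ⊓ K).index := by
    rw [← Subgroup.inf_relIndex_left]
    exact Subgroup.relIndex_mul_index inf_le_left
  refine ⟨c, ?_⟩
  have h3 : 0 < K.relIndex H := Nat.pos_of_ne_zero (K.subgroupOf H).index_ne_zero_of_finite
  apply Nat.eq_of_mul_eq_mul_left h3
  rw [h2, ← h1, hc]; ring

/-- a normal subgroup all of whose primes are in `π(n2) ∪ {s}` -/
theorem PI.solvable_of_two {N D : Subgroup G} [N.Normal] (hD : Group.IsNilpotent D)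
    (hcop : (Nat.card D).Coprime D.index) {s : ℕ} (hs : s.Prime) (hsD : ¬ s ∣ Nat.card D)
    (hN : ∀ r : ℕ, r.Prime → r ∣ Nat.card N → r ∣ Nat.card D ∨ r = s) : Group.IsSolvable N := by
  classical
  haveI : Fact s.Prime := ⟨hs⟩
  let A : Subgroup N := D.subgroupOf N
  have hA : Group.IsNilpotent A := by
    haveI := hD
    have hinj : Function.Injective ((N.subtype.comp A.subtype).codRestrict D (fun a => a.2)) := by
      intro a b hab
      have := congrArg Subtype.val hab
      exact Subtype.ext (Subtype.ext this)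
    exact Group.nilpotent_of_mulEquiv (MonoidHom.ofInjective hinj).symm
  let B : Sylow s N := default
  have hB : Group.IsNilpotent (B : Subgroup N) := B.isPGroup'.isNilpotent
  have hAi : A.index ∣ D.index := by
    show D.relIndex N ∣ D.index
    exact PI.relIndex_dvd_index D N
  have hAc : Nat.card A ∣ Nat.card D := by
    have h1 : Nat.card A = Nat.card (D ⊓ N : Subgroup G) := by
      rw [← Subgroup.subgroupOf_map_subtype, Subgroup.card_map_of_injective N.subtype_injective]
    rw [h1]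
    exact Subgroup.card_dvd_of_le inf_le_left
  have hAs : ∃ k : ℕ, A.index = s ^ k := by
    refine ⟨A.index.primeFactorsList.length, Nat.eq_prime_pow_of_unique_prime_dvd A.index_ne_zero_of_finite ?_⟩
    intro r hr hrA
    rcases hN r hr (hrA.trans A.index_dvd_card) with h1 | h1
    · exfalso
      exact hr.one_lt.ne' (Nat.eq_one_of_dvd_coprimes hcop h1 (hrA.trans hAi))
    · exact h1
  obtain ⟨k, hk⟩ := hAs
  have hcopAB : (A.index).Coprime (B : Subgroup N).index := by
    rw [hk]
    exact Nat.Coprime.pow_left k ((Nat.Prime.coprime_iff_not_dvd hs).2 B.not_dvd_index)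
  refine Cfsg.Agent.S0564.result A B hA hB (fun g => ?_)
  obtain ⟨a, ha, b, hb, h⟩ := Cfsg.Agent.H72.exists_mul_of_coprime_index hcopAB g
  exact ⟨a, ha, b, hb, h⟩

theorem PI.type3 {n1 n2 n3 : ℕ} (h : D3 G n1 n2 n3) {q : ℕ} (hq : q.Prime) (hqG : q ∣ Nat.card G) (hq2 : ¬ q ∣ n2)
    {x1 : G} (hx1 : c x1 = n1) (hq1 : q ∣ (cz x1).index) {x : G} (hx : x ≠ 1)
    (hfull : ∀ k : ℕ, q ^ k ∣ Nat.card G → q ^ k ∣ c x) : c x = n3 := by
  rcases h.hall x hx with h1 | h1 | h1
  · exfalso
    apply not_dvd_index hq hfull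
    rw [index_eq (h1.trans hx1.symm)]
    exact hq1
  · exfalso
    apply hq2
    rw [← h1]
    have := hfull 1 (by rwa [pow_one])
    rwa [pow_one] at this
  · exact h1

theorem exists_vw {n1 n2 n3 : ℕ} (h : D3 G n1 n2 n3) (d13 : n1 ∣ n3) (D : Subgroup G)
    (hD : Group.IsNilpotent D) (hcard : Nat.card D = n2) (hcop : n2.Coprime D.index)
    (h3 : ∀ x : G, c x = n3 → ∀ r : ℕ, r.Prime → r ∣ (cz x).index → r ∣ n2)
    (hz : ∀ p : ℕ, p.Prime → p ∣ n2 → ∃ z : G, orderOf z = p ∧ c z = n2) :
    ∃ (s q : ℕ) (v w : G), s.Prime ∧ q.Prime ∧ s ≠ q ∧ ¬ s ∣ n2 ∧ ¬ q ∣ n2 ∧ orderOf v = s ∧ orderOf w = q ∧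
      cz v = cz w ∧ c v = n3 := by
  classical
  obtain ⟨x1, hx1, hcx1⟩ := h.ex1
  obtain ⟨x2, hx2, hcx2⟩ := h.ex2
  obtain ⟨x3, hx3, hcx3⟩ := h.ex3
  have hn2 : n2 ≠ 0 := by rw [← hcard]; exact Nat.card_pos.ne'
  have hDi : n2 * D.index = Nat.card G := by rw [← hcard]; exact D.card_mul_index
  -- indices of elements of type 2
  have hind2 : ∀ x : G, c x = n2 → (cz x).index = D.index := by
    intro x hx
    have h1 : n2 * (cz x).index = Nat.card G := by rw [← hx]; exact (cz x).card_mul_index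
    exact Nat.eq_of_mul_eq_mul_left (Nat.pos_of_ne_zero hn2) (h1.trans hDi.symm)
  -- every prime divides a class size
  have hsome : ∀ p : ℕ, p.Prime → p ∣ Nat.card G → ∃ x : G, p ∣ (cz x).index := by
    intro p hp hpG
    haveI : Fact p.Prime := ⟨hp⟩
    by_contra hcon
    push Not at hcon
    have h1 := Cfsg.Agent.H69.sylow_le_center_of_forall_not_dvd hcon (default : Sylow p G)
    rw [h.hZ] at h1
    exact (default : Sylow p G).ne_bot_of_dvd_card hpG (le_bot_iff.1 h1)
  -- the set of bad primes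
  have hbad : ∀ r : ℕ, r.Prime → r ∣ Nat.card G → ¬ r ∣ n2 → ¬ r ∣ (cz x1).index → ∀ p : ℕ, p.Prime → p ∣ n2 →
      Cfsg.HasNormalPComplement p G ∨ Cfsg.HasNormalPComplement r G := by
    intro r hr hrG hr2 hr1 p hp hp2
    have hpr : p ≠ r := by rintro rfl; exact hr2 hp2
    apply Cfsg.Agent.S4160.result p r hp hr hpr
    · exact hsome p hp (hp2.trans (Dvd.intro _ hDi))
    · exact hsome r hr hrG
    · intro x hd
      have hdp : p ∣ (cz x).index := (Dvd.intro r rfl).trans hd
      have hdr : r ∣ (cz x).index := (Dvd.intro_left p rfl).trans hd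
      by_cases hx : x = 1
      · have : cz x = ⊤ := by
          rw [eq_top_iff]; intro g _; rw [mem_cz, hx, mul_one, one_mul]
        rw [this, Subgroup.index_top] at hdp
        exact hp.one_lt.ne' (Nat.dvd_one.1 hdp)
      rcases h.hall x hx with h1 | h1 | h1
      · rw [index_eq (h1.trans hcx1.symm)] at hdr
        exact hr1 hdr
      · rw [hind2 x h1] at hdp
        exact hp.one_lt.ne' (Nat.eq_one_of_dvd_coprimes hcop hp2 hdp)
      · exact hr2 (h3 x h1 r hr hdr)
  -- not all `p ∣ n2` have normal complements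
  have hnot : ∃ p : ℕ, p.Prime ∧ p ∣ n2 ∧ ¬ Cfsg.HasNormalPComplement p G := by
    by_contra hcon
    push Not at hcon
    obtain ⟨N, hN, hs, hd⟩ := PI.exists_normal_of_compl (G := G) n2.primeFactors (fun p hp =>
      ⟨Nat.prime_of_mem_primeFactors hp, hcon p (Nat.prime_of_mem_primeFactors hp) (Nat.dvd_of_mem_primeFactors hp)⟩)
    have hn21 : n2 ≠ 1 := by
      intro h1
      have h2 : orderOf x2 ∣ 1 := by
        rw [← h1, ← hcx2]
        exact (cz x2).orderOf_dvd_natCard (self_mem x2)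
      exact hx2 (orderOf_eq_one_iff.1 (Nat.dvd_one.1 h2))
    obtain ⟨p, hp, hpn⟩ := Nat.exists_prime_and_dvd hn21
    obtain ⟨z, hzo, hzc⟩ := hz p hp hpn
    have hnil : Group.IsNilpotent N := by
      apply PI.fpf_nilpotent hp hzo
      intro x hx hxz
      have h1 : orderOf x ∣ n2 := by
        rw [← hzc]
        exact (cz z).orderOf_dvd_natCard (mem_cz.2 hxz)
      have h2 : orderOf x ∣ Nat.card N := N.orderOf_dvd_natCard hx
      have h3 : n2.Coprime (Nat.card N) := by
        apply Nat.Coprime.symm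
        apply Nat.coprime_of_dvd
        intro k hk hkN hk2
        exact hd k (Nat.mem_primeFactors.2 ⟨hk, hk2, hn2⟩) hkN
      exact orderOf_eq_one_iff.1 (Nat.eq_one_of_dvd_coprimes h3 h1 h2)
    exact h.ns (PI.solvable_of_normal inferInstance hs)
  obtain ⟨p0, hp0, hp02, hp0c⟩ := hnot
  -- so bad primes have normal complements
  have hbad2 : ∀ r : ℕ, r.Prime → r ∣ Nat.card G → ¬ r ∣ n2 → ¬ r ∣ (cz x1).index → Cfsg.HasNormalPComplement r G := by
    intro r hr hrG hr2 hr1
    rcases hbad r hr hrG hr2 hr1 p0 hp0 hp02 with h1 | h1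
    · exact absurd h1 hp0c
    · exact h1
  -- there are two good primes
  have htwo : ∃ s q : ℕ, s.Prime ∧ q.Prime ∧ s ≠ q ∧ ¬ s ∣ n2 ∧ ¬ q ∣ n2 ∧ s ∣ Nat.card G ∧ q ∣ Nat.card G ∧
      s ∣ (cz x1).index ∧ q ∣ (cz x1).index := by
    by_contra hcon
    push Not at hcon
    obtain ⟨N, hN, hs, hd⟩ := PI.exists_normal_of_compl (G := G)
      ((Nat.card G).primeFactors.filter (fun r => ¬ r ∣ n2 ∧ ¬ r ∣ (cz x1).index)) (fun r hr => by
        rw [Finset.mem_filter, Nat.mem_primeFactors] at hr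
        exact ⟨hr.1.1, hbad2 r hr.1.1 hr.1.2.1 hr.2.1 hr.2.2⟩)
    -- a prime `s`
    have hs : ∃ s : ℕ, s.Prime ∧ ¬ s ∣ n2 ∧ ∀ r : ℕ, r.Prime → r ∣ Nat.card G → ¬ r ∣ n2 → r ∣ (cz x1).index → r = s := by
      by_cases hex : ∃ s : ℕ, s.Prime ∧ ¬ s ∣ n2 ∧ s ∣ Nat.card G ∧ s ∣ (cz x1).index
      · obtain ⟨s, hs, hs2, hsG, hs1⟩ := hex
        refine ⟨s, hs, hs2, fun r hr hrG hr2 hr1 => ?_⟩
        by_contra hrs
        exact hcon r s hr hs hrs hr2 hs2 hrG hsG hr1 hs1
      · push Not at hex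
        obtain ⟨s, hs1, hs⟩ := Nat.exists_infinite_primes (n2 + 1)
        refine ⟨s, hs, fun hd => ?_, fun r hr hrG hr2 hr1 => absurd hr1 (hex r hr hr2 hrG)⟩
        have := Nat.le_of_dvd (Nat.pos_of_ne_zero hn2) hd
        omega
    obtain ⟨s, hsp, hs2, hs3⟩ := hs
    have hsol : Group.IsSolvable N := by
      refine PI.solvable_of_two hD (by rw [hcard]; exact hcop) hsp (by rw [hcard]; exact hs2) ?_
      intro r hr hrN
      rw [hcard]
      by_cases hr2 : r ∣ n2
      · exact Or.inl hr2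
      · right
        have hrG : r ∣ Nat.card G := hrN.trans N.card_subgroup_dvd_card
        apply hs3 r hr hrG hr2
        by_contra hr1
        exact hd r (Finset.mem_filter.2 ⟨Nat.mem_primeFactors.2 ⟨hr, hrG, Nat.card_pos.ne'⟩, hr2, hr1⟩) hrN
    exact h.ns (PI.solvable_of_normal hsol ‹_›)
  obtain ⟨s, q, hs, hq, hsq, hs2, hq2, hsG, hqG, hs1, hq1⟩ := htwo
  haveI : Fact q.Prime := ⟨hq⟩
  obtain ⟨v, hv, hvf⟩ := exists_full hs hsG
  have hv1 := ne_one_of_prime hs hv
  have hvc : c v = n3 := PI.type3 h hs hsG hs2 hcx1 hs1 hv1 hvf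
  -- `q` does not divide the index of `cz v`
  have hqv : ¬ q ∣ (cz v).index := fun hd => hq2 (h3 v hvc q hq hd)
  have hfull : ∀ k : ℕ, q ^ k ∣ Nat.card G → q ^ k ∣ Nat.card (cz v) := by
    intro k hk
    rw [← (cz v).card_mul_index] at hk
    exact Nat.Coprime.dvd_of_dvd_mul_right (Nat.Coprime.pow_left k ((Nat.Prime.coprime_iff_not_dvd hq).2 hqv)) hk
  have hqcv : q ∣ Nat.card (cz v) := by
    have := hfull 1 (by rwa [pow_one])
    rwa [pow_one] at this
  obtain ⟨z, hzo, hzf⟩ := exists_full (G := cz v) hq hqcv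
  have hwo : orderOf (z : G) = q := by rw [Subgroup.orderOf_coe]; exact hzo
  have hw1 := ne_one_of_prime hq hwo
  have hzv : (z : G) * v = v * z := mem_cz.1 z.2
  have hle1 : (cz z).map (cz v).subtype ≤ cz (v * (z : G)) := by
    rintro _ ⟨y, hy, rfl⟩
    have hy1 : (y : G) * v = v * y := mem_cz.1 y.2
    have hy2 : (y : G) * z = z * y := congrArg Subtype.val (mem_cz.1 hy)
    rw [mem_cz]
    exact (show Commute (y : G) v from hy1).mul_right (show Commute (y : G) z from hy2)
  have hle2 : (cz z).map (cz v).subtype ≤ cz (z : G) := by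
    rintro _ ⟨y, hy, rfl⟩
    have hy2 : (y : G) * z = z * y := congrArg Subtype.val (mem_cz.1 hy)
    exact mem_cz.2 hy2
  have hcm : Nat.card ((cz z).map (cz v).subtype) = c z :=
    Subgroup.card_map_of_injective (cz v).subtype_injective
  have hf1 : ∀ k : ℕ, q ^ k ∣ Nat.card G → q ^ k ∣ c (v * (z : G)) := by
    intro k hk
    have h1 := hzf k (hfull k hk)
    rw [← hcm] at h1
    exact h1.trans (Subgroup.card_dvd_of_le hle1)
  have hf2 : ∀ k : ℕ, q ^ k ∣ Nat.card G → q ^ k ∣ c (z : G) := by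
    intro k hk
    have h1 := hzf k (hfull k hk)
    rw [← hcm] at h1
    exact h1.trans (Subgroup.card_dvd_of_le hle2)
  have hcopo : (orderOf v).Coprime (orderOf (z : G)) := by
    rw [hv, hwo]; exact (Nat.coprime_primes hs hq).2 hsq
  have hvz1 : v * (z : G) ≠ 1 := by
    intro h1
    have h2 : (z : G) = v⁻¹ := (inv_eq_of_mul_eq_one_right h1).symm
    rw [h2, orderOf_inv, Nat.coprime_self] at hcopo
    exact hv1 (orderOf_eq_one_iff.1 hcopo)
  have hc1 : c (v * (z : G)) = n3 := PI.type3 h hq hqG hq2 hcx1 hq1 hvz1 hf1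
  have hc2 : c (z : G) = n3 := PI.type3 h hq hqG hq2 hcx1 hq1 hw1 hf2
  have he1 := cz_eq (cz_mul_le hzv.symm hcopo) (hc1.trans hvc.symm)
  have he2 := cz_eq (cz_mul_le' hzv.symm hcopo) (hc1.trans hc2.symm)
  exact ⟨s, q, v, z, hs, hq, hsq, hs2, hq2, hv, hwo, he1.symm.trans he2, hvc⟩

end Cfsg.Agent.H46CS
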